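import Groth.Agent.Lib.RelAss13.KillFree

/-!
Constructibility of the set of fibres without associated points in a constructible closed set.
-/

set_option autoImplicit false
set_option linter.style.haveILetI false
set_option linter.unusedSectionVars false
set_option maxHeartbeats 1000000
universe u

open TensorProduct

namespace GrothLib.RelAss13

section Model

attribute [local instance] MvPolynomial.algebraMvPolynomial

open GrothLib.PureSpread in
/-- A finitely presented module over a polynomial ring with chosen polynomials comes from a finitely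
generated subring, compatibly with the polynomial action. -/
theorem exists_model_family {A : Type u} [CommRing A] {n : ℕ} (N₁ : Type u) [AddCommGroup N₁] [Module (MvPolynomial (Fin n) A) N₁] [Module A N₁]
    [IsScalarTower A (MvPolynomial (Fin n) A) N₁] [Module.FinitePresentation (MvPolynomial (Fin n) A) N₁]
    {l : ℕ} (h : Fin l → MvPolynomial (Fin n) A) :
    ∃ (A₀ : Subalgebra ℤ A) (_ : IsNoetherianRing A₀) (N₀ : Type u) (_ : AddCommGroup N₀)
      (_ : Module (MvPolynomial (Fin n) A₀) N₀) (_ : Module A₀ N₀) (_ : IsScalarTower A₀ (MvPolynomial (Fin n) A₀) N₀)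
      (_ : Module.Finite (MvPolynomial (Fin n) A₀) N₀) (h₀ : Fin l → MvPolynomial (Fin n) A₀) (e : A ⊗[A₀] N₀ ≃ₗ[A] N₁),
      (∀ i, MvPolynomial.map (algebraMap A₀ A) (h₀ i) = h i) ∧
      ∀ (f : MvPolynomial (Fin n) A₀) (y : N₀), e (1 ⊗ₜ (f • y)) = MvPolynomial.map (algebraMap A₀ A) f • e (1 ⊗ₜ y) := by
  classical
  obtain ⟨T, hT⟩ := GrothLib.FlatModel.exists_model' N₁ (Fin.elim0 : Fin 0 → MvPolynomial (Fin n) A) fun j => j.elim0
  let T' : Finset A := T ∪ Finset.univ.biUnion fun i => (h i).support.image (h i).coeff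
  let A₀ : Subalgebra ℤ A := Algebra.adjoin ℤ (T' : Set A)
  have hTr : (T : Set A) ⊆ Set.range (algebraMap A₀ A) := fun x hx =>
    ⟨⟨x, Algebra.subset_adjoin (Finset.mem_coe.2 (Finset.mem_union_left _ hx))⟩, rfl⟩
  obtain ⟨r, K, -, ⟨eM⟩⟩ := hT A₀ hTr
  have hlift : ∀ i, ∃ g, MvPolynomial.map (algebraMap A₀ A) g = h i := fun i => by
    refine ⟨∑ d ∈ (h i).support.attach, MvPolynomial.monomial d.1
      (⟨(h i).coeff d.1, Algebra.subset_adjoin (Finset.mem_coe.2 (Finset.mem_union_right _
        (Finset.mem_biUnion.2 ⟨i, Finset.mem_univ i, Finset.mem_image_of_mem _ d.2⟩)))⟩ : A₀), ?_⟩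
    rw [map_sum]
    simp only [MvPolynomial.map_monomial]
    exact (Finset.sum_attach (h i).support (fun d => MvPolynomial.monomial d ((h i).coeff d))).trans
      (h i).support_sum_monomial_coeff
  choose h₀ hh₀ using hlift
  let P₀ := MvPolynomial (Fin n) A₀
  let N₀ := (Fin r → P₀) ⧸ K
  let E := Algebra.IsPushout.cancelBaseChange A₀ A P₀ (MvPolynomial (Fin n) A) N₀
  let e : A ⊗[A₀] N₀ ≃ₗ[A] N₁ :=
    { E.symm.toAddEquiv.trans eM.toAddEquiv with
      map_smul' := fun c x => by
        show eM (E.symm (c • x)) = c • eM (E.symm x)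
        exact (congrArg eM (E.symm.map_smul c x)).trans (eM.toLinearMap.map_smul_of_tower c _) }
  refine ⟨A₀, isNoetherianRing_of_fg (Subalgebra.fg_adjoin_finset T'), N₀, inferInstance, inferInstance, inferInstance,
    inferInstance, inferInstance, h₀, e, hh₀, fun f y => ?_⟩
  have hE : ∀ z : N₀, E.symm ((1 : A) ⊗ₜ[A₀] z) = (1 : MvPolynomial (Fin n) A) ⊗ₜ[P₀] z := fun z => by
    rw [LinearEquiv.symm_apply_eq]
    exact (Algebra.IsPushout.cancelBaseChange_tmul A₀ A P₀ (MvPolynomial (Fin n) A) N₀ z).symm
  show eM (E.symm (1 ⊗ₜ (f • y))) = MvPolynomial.map (algebraMap A₀ A) f • eM (E.symm (1 ⊗ₜ y))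
  rw [hE, hE, ← map_smul eM, TensorProduct.smul_tmul', TensorProduct.tmul_smul, ← algebraMap_smul
    (MvPolynomial (Fin n) A) f, TensorProduct.smul_tmul']
  rfl

/-- The polynomial case of constructibility. -/
theorem isConstructible_injFib_poly {A : Type u} [CommRing A] {n r : ℕ} (N : Type u) [AddCommGroup N]
    [Module (MvPolynomial (Fin n) A) N] [Module A N] [IsScalarTower A (MvPolynomial (Fin n) A) N]
    [Module.FinitePresentation (MvPolynomial (Fin n) A) N] (h : Fin r → MvPolynomial (Fin n) A) :
    Topology.IsConstructible {t : PrimeSpectrum A | InjFib ((jmap N h).restrictScalars A) t.asIdeal} := by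
  obtain ⟨A₀, hA₀, N₀, _, _, _, _, _, h₀, e, hh, he⟩ := exists_model_family N h
  haveI := hA₀
  let u₀ := (jmap N₀ h₀).restrictScalars A₀
  let E := TensorProduct.piRight A₀ A A (fun _ : Fin r => N₀) ≪≫ₗ LinearEquiv.piCongrRight (fun _ => e)
  have hsq : ∀ x, E (u₀.baseChange A x) = (jmap N h).restrictScalars A (e x) := fun x => by
    induction x using TensorProduct.induction_on with
    | zero => simp
    | add a b ha hb => simp only [map_add, ha, hb]
    | tmul a y =>
      funext i
      show e (a ⊗ₜ[A₀] (h₀ i • y)) = h i • e (a ⊗ₜ[A₀] y)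
      have ha : ∀ w : N₀, a ⊗ₜ[A₀] w = a • ((1 : A) ⊗ₜ[A₀] w) := fun w => by
        rw [smul_tmul', smul_eq_mul, mul_one]
      rw [ha, ha y, map_smul, map_smul, he, hh, smul_comm]
  have hset : {t : PrimeSpectrum A | InjFib ((jmap N h).restrictScalars A) t.asIdeal} =
      PrimeSpectrum.comap (algebraMap A₀ A) ⁻¹' {t | InjFib u₀ t.asIdeal} := by
    ext t
    exact (injFib_congr (u₀.baseChange A) _ e E hsq t.asIdeal).symm.trans
      (injFib_baseChange u₀ t.asIdeal (t.asIdeal.comap (algebraMap A₀ A)) rfl)
  rw [hset]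
  exact AlgebraicGeometry.Scheme.Hom.isConstructible_preimage
    (AlgebraicGeometry.Spec.map (CommRingCat.ofHom (algebraMap A₀ A))) (isConstructible_injFib_noetherian (jmap N₀ h₀))

end Model

/-- The set of primes without associated point of the fibre in a constructible closed set is constructible. -/
theorem isConstructible_killFree {A B : Type u} [CommRing A] [CommRing B] [Algebra A B] [Algebra.FinitePresentation A B]
    (N : Type u) [AddCommGroup N] [Module B N] [Module A N] [IsScalarTower A B N] [Module.FinitePresentation B N]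
    (J : Ideal B) (hJ : J.FG) :
    Topology.IsConstructible {t : PrimeSpectrum A | KillFree N J t.asIdeal} := by
  obtain ⟨r, j, hj⟩ := Submodule.fg_iff_exists_fin_generating_family.1 hJ
  obtain ⟨n, π, hπ, hker⟩ := (inferInstance : Algebra.FinitePresentation A B).out
  let P := MvPolynomial (Fin n) A
  letI : Algebra P B := π.toRingHom.toAlgebra
  haveI : IsScalarTower A P B := IsScalarTower.of_algebraMap_eq fun r => (π.commutes r).symm
  letI : Module P N := Module.compHom N π.toRingHom
  haveI : IsScalarTower P B N := IsScalarTower.of_algebraMap_smul fun _ _ => rfl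
  haveI : IsScalarTower A P N := IsScalarTower.of_algebraMap_smul fun r x => by
    show π (algebraMap A P r) • x = r • x
    rw [π.commutes, algebraMap_smul]
  haveI : Module.FinitePresentation P B :=
    Module.finitePresentation_of_surjective (Algebra.linearMap P B) hπ hker
  haveI : Module.FinitePresentation P N := Module.FinitePresentation.trans (R := P) (M := N) B
  choose h hh using fun i => hπ (j i)
  have hu : (jmap N j).restrictScalars A = (jmap N h).restrictScalars A := LinearMap.ext fun x => funext fun i => by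
    show j i • x = π (h i) • x
    rw [hh]
  have hset : {t : PrimeSpectrum A | KillFree N J t.asIdeal} =
      {t | InjFib ((jmap N h).restrictScalars A) t.asIdeal} := by
    ext t
    show KillFree N J t.asIdeal ↔ InjFib ((jmap N h).restrictScalars A) t.asIdeal
    rw [← hu, ← killFree_span_iff, show Ideal.span (Set.range j) = J from hj]
  rw [hset]
  exact isConstructible_injFib_poly N h

end GrothLib.RelAss13
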