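import Groth.Agent.Lib.RelAss13.Special
import Groth.Agent.Lib.Chev28.SectComp
import Groth.Agent.Lib.Chev28.TFAE
import Groth.Agent.Lib.RelAssDim8.Scheme

/-!
Fibres of the closure of a relative associated point at points of flatness.
-/

set_option autoImplicit false
set_option linter.style.haveILetI false
set_option linter.unusedSectionVars false
set_option backward.isDefEq.respectTransparency false
universe u

open CategoryTheory CategoryTheory.Limits AlgebraicGeometry

noncomputable section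

namespace GrothLib.RelAss13

variable {X S : Scheme.{u}} (f : X ⟶ S) [LocallyOfFiniteType f] (F : X.Modules) [F.IsQuasicoherent]

/-- A point of flatness which is generic in the fibre of the closure of a relative associated point is a
relative associated point. -/
theorem mem_relAss_of_generic (hFt : CohB1.IsFT F) (y : X) (hy : y ∈ MoreMor.relAss f F) (x : X) (hyx : y ⤳ x)
    (hmax : ∀ z, f z = f x → y ⤳ z → z ⤳ x → z = x) (hfl : FlatMod.IsFlatOverAt f F x) :
    x ∈ MoreMor.relAss f F := by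
  obtain ⟨V, hV, hxV, -⟩ := exists_isAffineOpen_mem_and_subset (show f x ∈ (⊤ : S.Opens) from trivial)
  obtain ⟨W, hW, hxW, e⟩ := exists_isAffineOpen_mem_and_subset (show x ∈ f ⁻¹ᵁ V from hxV)
  have hyW : y ∈ W := hyx.mem_open W.2 hxW
  letI : Algebra Γ(S, V) Γ(X, W) := (f.appLE V W e).hom.toAlgebra
  haveI : Algebra.FiniteType Γ(S, V) Γ(X, W) :=
    HasRingHomProperty.appLE @LocallyOfFiniteType f ‹_› ⟨V, hV⟩ ⟨W, hW⟩ e
  letI : Module Γ(S, V) Γ(F, W) := Module.compHom _ (algebraMap Γ(S, V) Γ(X, W))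
  haveI : IsScalarTower Γ(S, V) Γ(X, W) Γ(F, W) := IsScalarTower.of_algebraMap_smul fun _ _ => rfl
  haveI := QCoh.moduleFinite_of_isFiniteType F hFt hW
  haveI : (WeakAss.primeAt y hyW).LiesOver (WeakAss.primeAt (f y) (e hyW)) :=
    ⟨(RelAssCrit8.comap_primeAt f e y hyW).symm⟩
  haveI : (WeakAss.primeAt x hxW).LiesOver (WeakAss.primeAt (f x) (e hxW)) :=
    ⟨(RelAssCrit8.comap_primeAt f e x hxW).symm⟩
  obtain ⟨n, hn⟩ := RelAssDim8.exists_isTop f F hV hW e y hyW rfl hy
  rw [FlatFP.isFlatOverAt_iff f F hV hW e hxW rfl] at hfl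
  obtain ⟨q, hq, hyq, hqx, hqt, hassq⟩ := RG6.exists_assoc_specialization Γ(F, W) (WeakAss.primeAt (f x) (e hxW))
    (WeakAss.primeAt (f y) (e hyW)) (WeakAss.primeAt y hyW) (mem_ass_of_isTop _ _ hn) (WeakAss.primeAt x hxW)
    (primeAt_le_of_specializes hxW hyx) hfl
  obtain ⟨z, hzW, hzq⟩ := exists_point_chart hW q
  subst hzq
  have h1 : WeakAss.primeAt (f z) (e hzW) = WeakAss.primeAt (f x) (e hxW) :=
    (RelAssCrit8.comap_primeAt f e z hzW).symm.trans hqt.over.symm
  have hfz : f z = f x :=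
    (RelAssCrit8.eq_of_primeAt_eq hV (e hzW) ⟨WeakAss.primeAt (f x) (e hxW), inferInstance⟩ h1).symm.trans
      (RelAssCrit8.eq_of_primeAt_eq hV (e hxW) _ rfl)
  have hzx : z = x :=
    hmax z hfz (specializes_of_primeAt_le hW hzW hyW hyq) (specializes_of_primeAt_le hW hxW hzW hqx)
  subst hzx
  exact RelAssCrit8.mem_relAss f F hV hW e z hzW rfl _ rfl hassq

/-- The dimension of the fibre of the closure of a relative associated point at a generic point of flatness. -/
theorem localDim_closure_fibre (hFt : CohB1.IsFT F) (y : X) (hy : y ∈ MoreMor.relAss f F) (s : S) (x : X)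
    (hyx : x ∈ closure ({y} : Set ↑X)) (hxs : f x = s) (hmax : ∀ z, f z = f x → y ⤳ z → z ⤳ x → z = x)
    (hfl : FlatMod.IsFlatOverAt f F x) :
    FlatMor.localDim ↑(closure ({y} : Set ↑X) ∩ f ⁻¹' {s}) ⟨x, hyx, hxs⟩ =
      topologicalKrullDim ↑(closure ({y} : Set ↑X) ∩ f ⁻¹' {f y}) := by
  subst hxs
  have hsp : y ⤳ x := specializes_iff_mem_closure.2 hyx
  obtain ⟨d, hd, hdim⟩ := Chev28.exists_dim_fibClosure f y
  obtain ⟨d', hd', -⟩ := Chev28.exists_dim_fibClosure f x
  obtain ⟨z, d'', hz, hyz, hzx, hd'', hle⟩ := Chev28.exists_specializing_resTrdeg f hsp hd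
  obtain rfl := hmax z hz hyz hzx
  have he : d'' = d' := by exact_mod_cast hd''.symm.trans hd'
  have hle' : d' ≤ d := by
    have h := RelAssDim8.resTrdeg_le f F hFt hy hsp hfl d' hd'
    rw [hd] at h
    exact_mod_cast h
  have hdd : d' = d := le_antisymm hle' (he ▸ hle)
  rw [hdim]
  obtain ⟨Zs, ι, _, _, hrange, -⟩ := Chev28.exists_integral_closure y
  obtain ⟨w, rfl⟩ := hrange.ge hyx
  obtain ⟨n, hn, hN⟩ := Equidim6.fibreDimAt_eq_resTrdeg (ι ≫ f) w fun v hv hvw => by
    apply ι.isClosedEmbedding.injective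
    exact hmax (ι v) hv (specializes_iff_mem_closure.2 (hrange.le ⟨v, rfl⟩)) (hvw.map ι.continuous)
  rw [FunFlat6.resTrdeg_closedImmersion, hd'] at hn
  have hnd : d' = n := by exact_mod_cast hn
  rw [← hdd, hnd, ← hN]
  let φ : (ι ≫ f).fiber ((ι ≫ f) w) → X := fun v => ι ((ι ≫ f).fiberι _ v)
  have hφ : Topology.IsEmbedding φ :=
    ι.isClosedEmbedding.isEmbedding.comp ((ι ≫ f).fiberι _).isEmbedding
  have hr : Set.range φ = closure ({y} : Set ↑X) ∩ f ⁻¹' {f (ι w)} := by
    ext v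
    constructor
    · rintro ⟨v, rfl⟩
      exact ⟨hrange.le ⟨_, rfl⟩, ((ι ≫ f).range_fiberι _).le ⟨v, rfl⟩⟩
    · rintro ⟨hv, hvf⟩
      obtain ⟨v', rfl⟩ := hrange.ge hv
      obtain ⟨v, hv⟩ := ((ι ≫ f).range_fiberι _).ge (show v' ∈ (ι ≫ f) ⁻¹' {(ι ≫ f) w} from hvf)
      exact ⟨v, congrArg ι hv⟩
  have hmain := Chev28.localDim_homeomorph (hφ.toHomeomorph.trans (Homeomorph.setCongr hr)) ((ι ≫ f).asFiber w)
  rw [FlatMor.fibreDimAt, ← hmain]
  congr 1
  exact Subtype.ext (congrArg ι ((ι ≫ f).fiberι_asFiber w).symm)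

end GrothLib.RelAss13
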