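import Groth.Agent.Lib.GenFree.Presentation
import Groth.Agent.Lib.NoethTop.Constructible
import Groth.Agent.Lib.PureSpread.Model

/-!
Injectivity of a map on the fibres over the base: generic dichotomy and constructibility.
-/

set_option autoImplicit false
set_option linter.style.haveILetI false
set_option linter.unusedSectionVars false
universe u

open TensorProduct

namespace GrothLib.RelAss13

attribute [local instance] Algebra.TensorProduct.rightAlgebra

/-- A map is injective on the fibre over a prime. -/
def InjFib {A N M : Type u} [CommRing A] [AddCommGroup N] [Module A N] [AddCommGroup M] [Module A M]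
    (u : N →ₗ[A] M) (t : Ideal A) [t.IsPrime] : Prop :=
  Function.Injective (u.baseChange t.ResidueField)

/-- Fibre injectivity is invariant under base change. -/
theorem injFib_baseChange {A₀ A N₀ M₀ : Type u} [CommRing A₀] [CommRing A] [Algebra A₀ A] [AddCommGroup N₀]
    [Module A₀ N₀] [AddCommGroup M₀] [Module A₀ M₀] (u₀ : N₀ →ₗ[A₀] M₀) (t : Ideal A) [t.IsPrime] (t₀ : Ideal A₀)
    [t₀.IsPrime] (h : t₀ = t.comap (algebraMap A₀ A)) :
    InjFib (u₀.baseChange A) t ↔ InjFib u₀ t₀ := by
  let k := t₀.ResidueField
  let K := t.ResidueField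
  letI : Algebra k K := (Ideal.ResidueField.map t₀ t (algebraMap A₀ A) h).toAlgebra
  haveI : IsScalarTower A₀ k K := IsScalarTower.of_algebraMap_eq fun x => by
    show algebraMap A₀ K x = Ideal.ResidueField.map t₀ t (algebraMap A₀ A) h (algebraMap A₀ k x)
    rw [Ideal.ResidueField.map_algebraMap, ← IsScalarTower.algebraMap_apply A₀ A K]
  let e₁ := AlgebraTensorModule.cancelBaseChange A₀ A A K N₀
  let e₂ := AlgebraTensorModule.cancelBaseChange A₀ A A K M₀
  let f₁ := AlgebraTensorModule.cancelBaseChange A₀ k k K N₀
  let f₂ := AlgebraTensorModule.cancelBaseChange A₀ k k K M₀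
  have he : ∀ z, e₂ ((u₀.baseChange A).baseChange K z) = u₀.baseChange K (e₁ z) := fun z => by
    induction z using TensorProduct.induction_on with
    | zero => simp
    | add a b ha hb => simp only [map_add, ha, hb]
    | tmul c w =>
      induction w using TensorProduct.induction_on with
      | zero => simp
      | add a b ha hb => simp only [tmul_add, map_add, ha, hb]
      | tmul a n => simp [e₁, e₂]
  have hf : ∀ z, f₂ ((u₀.baseChange k).lTensor K z) = u₀.baseChange K (f₁ z) := fun z => by
    induction z using TensorProduct.induction_on with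
    | zero => simp
    | add a b ha hb => simp only [map_add, ha, hb]
    | tmul c w =>
      induction w using TensorProduct.induction_on with
      | zero => simp
      | add a b ha hb => simp only [tmul_add, map_add, ha, hb]
      | tmul a n => simp [f₁, f₂]
  have h1 : Function.Injective ((u₀.baseChange A).baseChange K) ↔ Function.Injective (u₀.baseChange K) := by
    constructor
    · intro hi a b hab
      obtain ⟨a, rfl⟩ := e₁.surjective a
      obtain ⟨b, rfl⟩ := e₁.surjective b
      rw [← he, ← he] at hab
      rw [hi (e₂.injective hab)]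
    · intro hi a b hab
      exact e₁.injective (hi (by rw [← he, ← he, hab]))
  have h2 : Function.Injective ((u₀.baseChange k).lTensor K) ↔ Function.Injective (u₀.baseChange K) := by
    constructor
    · intro hi a b hab
      obtain ⟨a, rfl⟩ := f₁.surjective a
      obtain ⟨b, rfl⟩ := f₁.surjective b
      rw [← hf, ← hf] at hab
      rw [hi (f₂.injective hab)]
    · intro hi a b hab
      exact f₁.injective (hi (by rw [← hf, ← hf, hab]))
  exact h1.trans (h2.symm.trans (Module.FaithfullyFlat.lTensor_injective_iff_injective k K (u₀.baseChange k)))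

/-- Fibre injectivity only depends on the map up to isomorphism. -/
theorem injFib_congr {A N M N' M' : Type u} [CommRing A] [AddCommGroup N] [Module A N] [AddCommGroup M] [Module A M]
    [AddCommGroup N'] [Module A N'] [AddCommGroup M'] [Module A M'] (u : N →ₗ[A] M) (u' : N' →ₗ[A] M')
    (e : N ≃ₗ[A] N') (e' : M ≃ₗ[A] M') (h : ∀ x, e' (u x) = u' (e x)) (t : Ideal A) [t.IsPrime] :
    InjFib u t ↔ InjFib u' t := by
  let E := e.baseChange A t.ResidueField N N'
  let E' := e'.baseChange A t.ResidueField M M'
  have hE : ∀ z, E' (u.baseChange t.ResidueField z) = u'.baseChange t.ResidueField (E z) := fun z => by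
    induction z using TensorProduct.induction_on with
    | zero => simp
    | add a b ha hb => simp only [map_add, ha, hb]
    | tmul c n => simp [E, E', h]
  constructor
  · intro hi a b hab
    obtain ⟨a, rfl⟩ := E.surjective a
    obtain ⟨b, rfl⟩ := E.surjective b
    rw [← hE, ← hE] at hab
    rw [hi (E'.injective hab)]
  · intro hi a b hab
    exact E.injective (hi (by rw [← hE, ← hE, hab]))

/-- Generic freeness modulo a prime of the base. -/
theorem exists_free_mod {A B : Type u} [CommRing A] [CommRing B] [Algebra A B] [Algebra.FiniteType A B] (P : Ideal A)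
    [P.IsPrime] (M : Type u) [AddCommGroup M] [Module B M] [Module A M] [IsScalarTower A B M] [Module.Finite B M] :
    ∃ f ∉ P, ∀ g : A, f ∣ g → Module.Free (Localization.Away (Ideal.Quotient.mk P g))
      (Localization.Away (Ideal.Quotient.mk P g) ⊗[A] M) := by
  let A₀ := A ⧸ P
  let B₀ := A₀ ⊗[A] B
  let M₀ := B₀ ⊗[B] M
  haveI : Module.Finite B₀ M₀ := inferInstance
  obtain ⟨f, -, hf, hfree⟩ := GrothLib.GenFree.gf_of_finiteType (R := A₀) B₀ M₀ 1 one_ne_zero
  obtain ⟨f, rfl⟩ := Ideal.Quotient.mk_surjective f
  refine ⟨f, fun h => hf (Ideal.Quotient.eq_zero_iff_mem.2 h), fun g hg => ?_⟩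
  let L := Localization.Away (Ideal.Quotient.mk P g)
  have h1 : GrothLib.GenFree.FreeOn (Ideal.Quotient.mk P g) (A₀ ⊗[A] M) :=
    (hfree.of_equiv (Algebra.IsPushout.cancelBaseChange A A₀ B B₀ M)).mono (map_dvd _ hg)
  haveI := h1.free_tensor L
  exact Module.Free.of_equiv (AlgebraTensorModule.cancelBaseChange A A₀ L L M)

set_option maxHeartbeats 800000 in
/-- Fibre injectivity of a map of finite modules is constant on a dense open of an irreducible closed set. -/
theorem exists_injFib_dichotomy {A B : Type u} [CommRing A] [CommRing B] [Algebra A B] [Algebra.FiniteType A B]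
    {N M : Type u} [AddCommGroup N] [Module B N] [Module A N] [IsScalarTower A B N] [Module.Finite B N]
    [AddCommGroup M] [Module B M] [Module A M] [IsScalarTower A B M] [Module.Finite B M] (u : N →ₗ[B] M)
    (P : Ideal A) [P.IsPrime] :
    ∃ f ∉ P, (∀ (t : Ideal A) [t.IsPrime], P ≤ t → f ∉ t → InjFib (u.restrictScalars A) t) ∨
      (∀ (t : Ideal A) [t.IsPrime], P ≤ t → f ∉ t → ¬ InjFib (u.restrictScalars A) t) := by
  classical
  let A₀ := A ⧸ P
  let Q := M ⧸ LinearMap.range u
  obtain ⟨f₁, hf₁, hN⟩ := exists_free_mod (B := B) P N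
  obtain ⟨f₂, hf₂, hQ⟩ := exists_free_mod (B := B) P Q
  let f := f₁ * f₂
  have hfP : f ∉ P := fun h => (‹P.IsPrime›.mem_or_mem h).elim hf₁ hf₂
  let L := Localization.Away (Ideal.Quotient.mk P f)
  haveI : Module.Free L (L ⊗[A] N) := hN f ⟨f₂, rfl⟩
  haveI : Module.Free L (L ⊗[A] Q) := hQ f ⟨f₁, mul_comm _ _⟩
  let uA := u.restrictScalars A
  let uL := uA.baseChange L
  -- the fibres as base changes from the open piece
  have fibre : ∀ (t : Ideal A) [t.IsPrime], P ≤ t → f ∉ t →
      ∃ (_ : Algebra L t.ResidueField) (_ : IsScalarTower A L t.ResidueField), True := by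
    intro t _ hPt hft
    let k := t.ResidueField
    let ψ : A₀ →+* k := Ideal.Quotient.lift P (algebraMap A k) fun a ha =>
      Ideal.algebraMap_residueField_eq_zero.2 (hPt ha)
    have hu : IsUnit (ψ (Ideal.Quotient.mk P f)) := by
      rw [Ideal.Quotient.lift_mk]
      exact isUnit_iff_ne_zero.2 fun h0 => hft (Ideal.algebraMap_residueField_eq_zero.1 h0)
    letI alg : Algebra L k := (IsLocalization.Away.lift (Ideal.Quotient.mk P f) hu).toAlgebra
    refine ⟨alg, IsScalarTower.of_algebraMap_eq fun a => ?_, trivial⟩
    show algebraMap A k a = IsLocalization.Away.lift (Ideal.Quotient.mk P f) hu (algebraMap A L a)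
    rw [IsScalarTower.algebraMap_apply A A₀ L, IsLocalization.Away.lift_eq]
    exact (Ideal.Quotient.lift_mk P (algebraMap A k) _).symm
  by_cases hinj : Function.Injective uL
  · refine ⟨f, hfP, Or.inl fun t _ hPt hft => ?_⟩
    obtain ⟨_, _, -⟩ := fibre t hPt hft
    let k := t.ResidueField
    let π := ((LinearMap.range u).mkQ.restrictScalars A).baseChange L
    have hex : Function.Exact uL π :=
      lTensor_exact L (show Function.Exact uA ((LinearMap.range u).mkQ.restrictScalars A) from
        LinearMap.exact_map_mkQ_range u) (LinearMap.range u).mkQ_surjective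
    have hk := LinearMap.lTensor_injective_of_exact_of_flat π
      (LinearMap.lTensor_surjective L (LinearMap.range u).mkQ_surjective) uL hinj hex k
    let e₁ := AlgebraTensorModule.cancelBaseChange A L L k N
    let e₂ := AlgebraTensorModule.cancelBaseChange A L L k M
    have he : ∀ z, e₂ (uL.lTensor k z) = uA.baseChange k (e₁ z) := fun z => by
      induction z using TensorProduct.induction_on with
      | zero => simp
      | add a b ha hb => simp only [map_add, ha, hb]
      | tmul c w =>
        induction w using TensorProduct.induction_on with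
        | zero => simp
        | add a b ha hb => simp only [tmul_add, map_add, ha, hb]
        | tmul a n => simp [e₁, e₂, uL]
    intro a b hab
    obtain ⟨a, rfl⟩ := e₁.surjective a
    obtain ⟨b, rfl⟩ := e₁.surjective b
    rw [← he, ← he] at hab
    rw [hk (e₂.injective hab)]
  · obtain ⟨z, hz, hz0⟩ : ∃ z, uL z = 0 ∧ z ≠ 0 := by
      by_contra! hne
      exact hinj ((injective_iff_map_eq_zero uL).2 hne)
    let b := Module.Free.chooseBasis L (L ⊗[A] N)
    obtain ⟨i, hi⟩ : ∃ i, b.repr z i ≠ 0 := by
      by_contra! hne
      exact hz0 (b.repr.injective (Finsupp.ext fun i => by rw [hne i, map_zero]; rfl))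
    obtain ⟨⟨a₀, ⟨_, m, rfl⟩⟩, ha⟩ := IsLocalization.surj (Submonoid.powers (Ideal.Quotient.mk P f)) (b.repr z i)
    obtain ⟨a, rfl⟩ := Ideal.Quotient.mk_surjective a₀
    have haP : a ∉ P := fun h => by
      rw [Ideal.Quotient.eq_zero_iff_mem.2 h, map_zero, map_pow] at ha
      exact hi ((((IsLocalization.Away.algebraMap_isUnit (S := L) (Ideal.Quotient.mk P f)).pow m)).mul_left_eq_zero.1 ha)
    refine ⟨f * a, fun h => (‹P.IsPrime›.mem_or_mem h).elim hfP haP, Or.inr fun t _ hPt hft hk => ?_⟩
    obtain ⟨_, _, -⟩ := fibre t hPt fun h => hft (t.mul_mem_right _ h)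
    let k := t.ResidueField
    let e₁ := AlgebraTensorModule.cancelBaseChange A L L k N
    let e₂ := AlgebraTensorModule.cancelBaseChange A L L k M
    have he : ∀ w, e₂ (uL.baseChange k w) = uA.baseChange k (e₁ w) := fun w => by
      induction w using TensorProduct.induction_on with
      | zero => simp
      | add a b ha hb => simp only [map_add, ha, hb]
      | tmul c w =>
        induction w using TensorProduct.induction_on with
        | zero => simp
        | add a b ha hb => simp only [tmul_add, map_add, ha, hb]
        | tmul a n => simp [e₁, e₂, uL]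
    have h0 : e₁ ((1 : k) ⊗ₜ[L] z) = 0 := by
      refine hk ?_
      rw [← he, map_zero, LinearMap.baseChange_tmul, hz, tmul_zero, map_zero]
    have h1 : (b.baseChange k).repr ((1 : k) ⊗ₜ[L] z) i = 0 := by
      rw [e₁.map_eq_zero_iff.1 h0, map_zero]
      rfl
    rw [Module.Basis.baseChange_repr_tmul, Algebra.smul_def, mul_one] at h1
    have h2 := congrArg (algebraMap L k) ha
    rw [map_mul, h1, zero_mul] at h2
    change 0 = algebraMap L k (algebraMap A L a) at h2
    rw [← IsScalarTower.algebraMap_apply A L k a] at h2
    exact hft (t.mul_mem_left _ (Ideal.algebraMap_residueField_eq_zero.1 h2.symm))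

/-- Fibre injectivity over a Noetherian base is constructible. -/
theorem isConstructible_injFib_noetherian {A B : Type u} [CommRing A] [IsNoetherianRing A] [CommRing B] [Algebra A B]
    [Algebra.FiniteType A B] {N M : Type u} [AddCommGroup N] [Module B N] [Module A N] [IsScalarTower A B N]
    [Module.Finite B N] [AddCommGroup M] [Module B M] [Module A M] [IsScalarTower A B M] [Module.Finite B M]
    (u : N →ₗ[B] M) :
    Topology.IsConstructible {t : PrimeSpectrum A | InjFib (u.restrictScalars A) t.asIdeal} := by
  refine GrothLib.NoethTop.isConstructible_of_forall fun Y hY hi hsub => ?_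
  let P := PrimeSpectrum.vanishingIdeal Y
  haveI : P.IsPrime := PrimeSpectrum.isIrreducible_iff_vanishingIdeal_isPrime.1 hi
  have hYe : Y = PrimeSpectrum.zeroLocus (P : Set A) := by
    rw [PrimeSpectrum.zeroLocus_vanishingIdeal_eq_closure, hY.closure_eq]
  obtain ⟨f, hf, hd⟩ := exists_injFib_dichotomy u P
  let x : PrimeSpectrum A := ⟨P, inferInstance⟩
  have hxY : x ∈ Y := by rw [hYe]; exact fun a ha => ha
  refine ⟨PrimeSpectrum.basicOpen f, (PrimeSpectrum.basicOpen f).2, ⟨x, hf, hxY⟩, fun t ht => ?_⟩
  have hle : ∀ s ∈ Y, P ≤ s.asIdeal := fun s hs => by rw [hYe] at hs; exact hs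
  rcases hd with hgood | hbad
  · exact hgood t.asIdeal (hle t ht.2) ht.1
  · obtain ⟨s, hs, hsE, hsY⟩ := mem_closure_iff.1 (hsub hxY) _ (PrimeSpectrum.basicOpen f).2 hf
    exact absurd hsE (hbad s.asIdeal (hle s hsY) hs)

end GrothLib.RelAss13
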