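import Groth.Agent.Lib.RelAss13.Fib
import Groth.Agent.Lib.RG6.WeakAss
import Groth.Agent.Lib.FibClos.PointLocus

/-!
Associated points of the fibres outside an open: generic dichotomy and constructibility.
-/

set_option autoImplicit false
set_option linter.style.haveILetI false
set_option linter.unusedSectionVars false
universe u

open TensorProduct

namespace GrothLib.RelAss13

attribute [local instance] Algebra.TensorProduct.rightAlgebra

variable {A B : Type u} [CommRing A] [CommRing B] [Algebra A B] {N : Type u} [AddCommGroup N] [Module B N]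
  [Module A N] [IsScalarTower A B N]

variable (N) in
/-- No nonzero element of the fibre module is killed by the ideal. -/
def KillFree (J : Ideal B) (t : Ideal A) [t.IsPrime] : Prop :=
  ∀ z : N ⊗[A] t.ResidueField, (∀ b ∈ J, b • z = 0) → z = 0

variable (N) in
/-- Multiplication by finitely many elements. -/
def jmap {r : ℕ} (j : Fin r → B) : N →ₗ[B] (Fin r → N) :=
  LinearMap.pi fun k => LinearMap.lsmul B N (j k)

theorem killFree_span_iff {r : ℕ} (j : Fin r → B) (t : Ideal A) [t.IsPrime] :
    KillFree N (Ideal.span (Set.range j)) t ↔ InjFib ((jmap N j).restrictScalars A) t := by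
  let k := t.ResidueField
  let c := TensorProduct.comm A N k
  let E := TensorProduct.piRight A A k (fun _ : Fin r => N)
  have key : ∀ z i, E (((jmap N j).restrictScalars A).baseChange k (c z)) i = c (j i • z) := fun z i => by
    induction z using TensorProduct.induction_on with
    | zero => simp
    | add a b ha hb => simp only [map_add, Pi.add_apply, smul_add, ha, hb]
    | tmul n w => simp [E, c, jmap, smul_tmul']
  constructor
  · intro h
    show Function.Injective _
    rw [injective_iff_map_eq_zero]
    intro w hw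
    obtain ⟨z, rfl⟩ := c.surjective w
    rw [h z fun b hb => ?_, map_zero]
    induction hb using Submodule.span_induction with
    | mem x hx =>
      obtain ⟨i, rfl⟩ := hx
      refine c.injective ?_
      rw [← key, hw, map_zero, map_zero]
      rfl
    | zero => exact zero_smul _ _
    | add a b _ _ ha hb => rw [add_smul, ha, hb, add_zero]
    | smul a b _ hb => rw [smul_eq_mul, mul_smul, hb, smul_zero]
  · intro h z hz
    have h0 : ((jmap N j).restrictScalars A).baseChange k (c z) = 0 := E.injective (by
      rw [map_zero]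
      funext i
      rw [key, hz _ (Ideal.subset_span ⟨i, rfl⟩), map_zero]
      rfl)
    exact c.map_eq_zero_iff.1 (h (h0.trans (map_zero _).symm))

/-- Elements of the extension of a prime of the base below `t` kill the fibre module. -/
theorem smul_eq_zero_of_mem {P t : Ideal A} [t.IsPrime] (hPt : P ≤ t) {d : B} (hd : d ∈ P • (⊤ : Submodule A B))
    (z : N ⊗[A] t.ResidueField) : d • z = 0 := by
  refine Submodule.smul_induction_on hd (fun a ha b _ => ?_) fun x y hx hy => by rw [add_smul, hx, hy, add_zero]
  · rw [smul_assoc]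
    generalize b • z = w
    induction w using TensorProduct.induction_on with
    | zero => exact smul_zero _
    | add x y hx hy => rw [smul_add, hx, hy, add_zero]
    | tmul n w =>
      rw [← tmul_smul, Algebra.smul_def, Ideal.algebraMap_residueField_eq_zero.2 (hPt ha), zero_mul, tmul_zero]

/-- Scalars outside the prime act injectively on the fibre module. -/
theorem smul_fibre_injective {t : Ideal A} [t.IsPrime] {r : A} (hr : r ∉ t) {z : N ⊗[A] t.ResidueField}
    (h : r • z = 0) : z = 0 := by
  let k := t.ResidueField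
  let φ : k →ₗ[A] k := (LinearMap.mulLeft k (algebraMap A k r)⁻¹).restrictScalars A
  have hne : algebraMap A k r ≠ 0 := fun h0 => hr (Ideal.algebraMap_residueField_eq_zero.1 h0)
  have hφ : ∀ w : N ⊗[A] k, φ.lTensor N (r • w) = w := fun w => by
    induction w using TensorProduct.induction_on with
    | zero => simp
    | add x y hx hy => rw [smul_add, map_add, hx, hy]
    | tmul n w =>
      rw [← tmul_smul, LinearMap.lTensor_tmul]
      show n ⊗ₜ[A] ((algebraMap A k r)⁻¹ * (r • w)) = n ⊗ₜ[A] w
      rw [Algebra.smul_def, ← mul_assoc, inv_mul_cancel₀ hne, one_mul]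
  rw [← hφ z, h, map_zero]

variable (N) in
/-- Generic dichotomy for associated points of fibres in a closed set. -/
theorem exists_killFree_dichotomy [Algebra.FiniteType A B] [Module.Finite B N] (J : Ideal B) (P : Ideal A) [P.IsPrime] :
    ∃ f ∉ P, (∀ (t : Ideal A) [t.IsPrime], P ≤ t → f ∉ t → KillFree N J t) ∨
      (∀ (t : Ideal A) [t.IsPrime], P ≤ t → f ∉ t → ¬ KillFree N J t) := by
  classical
  let A₀ := A ⧸ P
  let B₀ := A₀ ⊗[A] B
  let ι : B →ₐ[A] B₀ := Algebra.TensorProduct.includeRight
  have hι : Function.Surjective ι.toRingHom := fun x => by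
    induction x using TensorProduct.induction_on with
    | zero => exact ⟨0, map_zero _⟩
    | add x y hx hy =>
      obtain ⟨a, ha⟩ := hx
      obtain ⟨b, hb⟩ := hy
      exact ⟨a + b, by rw [map_add, ha, hb]⟩
    | tmul a b =>
      obtain ⟨a, rfl⟩ := Ideal.Quotient.mk_surjective a
      refine ⟨a • b, ?_⟩
      show (1 : A₀) ⊗ₜ[A] (a • b) = _
      rw [← smul_tmul, Algebra.smul_def, mul_one]
      rfl
  obtain ⟨f₀, -, hf₀, -, J₀, hJ₀, hfg, hpow⟩ :=
    GrothLib.GenFree.exists_fg_on (R := A₀) (A := B₀) (V := B₀) (J.map ι.toRingHom) 1 one_ne_zero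
  obtain ⟨f₀, rfl⟩ := Ideal.Quotient.mk_surjective f₀
  have hf₀P : f₀ ∉ P := fun h => hf₀ (Ideal.Quotient.eq_zero_iff_mem.2 h)
  obtain ⟨G, hG⟩ := hfg
  have hlift : ∀ x ∈ G, ∃ b ∈ J, ι.toRingHom b = x := fun x hx =>
    (Ideal.mem_map_iff_of_surjective ι.toRingHom hι).1 (hJ₀ (hG ▸ Submodule.subset_span hx))
  choose! pre hpre hpre' using hlift
  let G' := G.image pre
  obtain ⟨r, j, hj⟩ := Submodule.fg_iff_exists_fin_generating_family.1
    (⟨G', rfl⟩ : (Ideal.span (G' : Set B)).FG)
  have hle : Ideal.span (G' : Set B) ≤ J := Ideal.span_le.2 fun x hx => by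
    obtain ⟨y, hy, rfl⟩ := Finset.mem_image.1 hx
    exact hpre y hy
  have hred : ∀ (t : Ideal A) [t.IsPrime], P ≤ t → f₀ ∉ t →
      (KillFree N J t ↔ KillFree N (Ideal.span (G' : Set B)) t) := by
    intro t _ hPt hft
    refine ⟨fun h z hz => h z fun b hb => ?_, fun h z hz => h z fun b hb => hz b (hle hb)⟩
    obtain ⟨e, he⟩ := hpow (ι.toRingHom b) (Ideal.mem_map_of_mem _ hb)
    have hmem : ι.toRingHom (f₀ ^ e • b) ∈ (Ideal.span (G' : Set B)).map ι.toRingHom := by
      have h1 : ι.toRingHom (f₀ ^ e • b) = Ideal.Quotient.mk P f₀ ^ e • ι.toRingHom b := by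
        show ι (f₀ ^ e • b) = Ideal.Quotient.mk P f₀ ^ e • ι b
        rw [map_smul, ← map_pow, ← Ideal.Quotient.algebraMap_eq, algebraMap_smul]
      rw [h1]
      rw [← hG] at he
      refine Submodule.span_le.2 (fun x hx => ?_) he
      rw [← hpre' x hx]
      exact Ideal.mem_map_of_mem _ (Ideal.subset_span (Finset.mem_image_of_mem pre hx))
    obtain ⟨c, hc, hcb⟩ := (Ideal.mem_map_iff_of_surjective ι.toRingHom hι).1 hmem
    have hker : f₀ ^ e • b - c ∈ P • (⊤ : Submodule A B) := by
      have h1 : (1 : A₀) ⊗ₜ[A] (f₀ ^ e • b - c) = 0 := by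
        show ι.toRingHom (f₀ ^ e • b - c) = 0
        rw [map_sub, hcb, sub_self]
      rw [← map_eq_zero_iff (TensorProduct.quotTensorEquivQuotSMul B P) (LinearEquiv.injective _),
        TensorProduct.quotTensorEquivQuotSMul_mk_one_tmul, Submodule.Quotient.mk_eq_zero] at h1
      exact h1
    have h2 : (f₀ ^ e • b) • z = 0 := by
      rw [← sub_add_cancel (f₀ ^ e • b) c, add_smul, smul_eq_zero_of_mem hPt hker, hz c hc, add_zero]
    rw [smul_assoc] at h2
    exact smul_fibre_injective (fun h => hft (‹t.IsPrime›.mem_of_pow_mem e h)) h2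
  obtain ⟨f₁, hf₁, hd⟩ := exists_injFib_dichotomy (jmap N j) P
  have hspan : Ideal.span (Set.range j) = Ideal.span (G' : Set B) := hj
  refine ⟨f₀ * f₁, fun h => (‹P.IsPrime›.mem_or_mem h).elim hf₀P hf₁, ?_⟩
  rcases hd with hd | hd
  · refine Or.inl fun t _ hPt hft => ?_
    rw [hred t hPt fun h => hft (t.mul_mem_right _ h), ← hspan, killFree_span_iff]
    exact hd t hPt fun h => hft (t.mul_mem_left _ h)
  · refine Or.inr fun t _ hPt hft => ?_
    rw [hred t hPt fun h => hft (t.mul_mem_right _ h), ← hspan, killFree_span_iff]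
    exact hd t hPt fun h => hft (t.mul_mem_left _ h)

/-- A killed element detects an associated point of the fibre in the closed set. -/
theorem killFree_iff [Algebra.FiniteType A B] [Module.Finite B N] (J : Ideal B) (t : Ideal A) [t.IsPrime] :
    KillFree N J t ↔ ∀ (q : Ideal B) [q.IsPrime] [q.LiesOver t],
      FlatCA.fiberIdeal t q ∈ associatedPrimes (t.Fiber B) (FlatCA.fiberMod t B N) → ¬ J ≤ q := by
  constructor
  · intro h q _ _ hass hJ
    obtain ⟨w, hw⟩ := GrothLib.RG6.exists_of_mem_ass t q hass
    have h0 := h w fun b hb => (hw b).2 (hJ hb)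
    exact (Ideal.ne_top_iff_one q).1 Ideal.IsPrime.ne_top' ((hw 1).1 (by rw [h0, smul_zero]))
  · intro h z hz
    by_contra hne
    haveI : IsNoetherianRing (t.Fiber B) := Algebra.FiniteType.isNoetherianRing t.ResidueField _
    obtain ⟨e, he⟩ := GrothLib.WeakAssFib.exists_fibreEquiv t (S := B) N
    obtain ⟨Q, hQ, hle⟩ := exists_le_isAssociatedPrime_of_isNoetherianRing (t.Fiber B) (e z)
      (fun h0 => hne (e.map_eq_zero_iff.1 h0))
    haveI : Q.IsPrime := hQ.isPrime
    let q := Q.comap (GrothLib.WeakAssFib.toFib (R := A) (S := B) t)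
    haveI : q.LiesOver t := ⟨(GrothLib.WeakAssFib.comap_comap_toFib t Q).symm⟩
    refine h q ?_ fun b hb => hle ?_
    · rw [GrothLib.WeakAssFib.fiberIdeal_comap t Q]
      exact hQ
    · rw [Submodule.mem_colon_singleton, Submodule.mem_bot, ← he, hz b hb, map_zero]

end GrothLib.RelAss13
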