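import Groth.Agent.Lib.RelAss13.Special
import Groth.Agent.Lib.FibPd.Chart
import Mathlib.AlgebraicGeometry.Morphisms.SchemeTheoreticallyDominant

/-!
Scheme theoretic density of an open in the fibres, through the fibre rings of affine charts.
-/

set_option autoImplicit false
set_option linter.style.haveILetI false
set_option linter.unusedSectionVars false
set_option backward.isDefEq.respectTransparency false
universe u

open CategoryTheory CategoryTheory.Limits AlgebraicGeometry IsLocalRing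
open scoped TensorProduct

noncomputable section

namespace GrothLib.RelAss13

/-- An open of a locally noetherian scheme is scheme theoretically dense iff no associated point lies
outside it. -/
theorem schDom_iff {Z : Scheme.{u}} [IsLocallyNoetherian Z] (U : Z.Opens) :
    IsSchemeTheoreticallyDominant U.ι ↔ ∀ z ∉ U, ∀ t : Z.presheaf.stalk z,
      (∀ a ∈ maximalIdeal (Z.presheaf.stalk z), a * t = 0) → t = 0 := by
  classical
  haveI : QuasiCompact U.ι := inferInstance
  have hres : ∀ (W : Z.Opens) (s : Γ(Z, W)),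
      U.ι.app W s = 0 ↔ ∀ (z : Z) (hz : z ∈ W), z ∈ U → Z.presheaf.germ W z hz s = 0 := by
    intro W s
    constructor
    · intro h z hz hzU
      have h1 : U.ι.stalkMap ⟨z, hzU⟩ (Z.presheaf.germ W z hz s) = 0 := by
        rw [show Z.presheaf.germ W z hz s = Z.presheaf.germ W (U.ι ⟨z, hzU⟩) hz s from rfl,
          Scheme.Hom.germ_stalkMap_apply, h, map_zero]
      exact (ConcreteCategory.bijective_of_isIso (U.ι.stalkMap ⟨z, hzU⟩)).1 (h1.trans (map_zero _).symm)
    · intro h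
      refine TopCat.Presheaf.section_ext U.toScheme.sheaf _ _ _ fun v hv => ?_
      erw [map_zero]
      show U.toScheme.presheaf.germ _ v hv (U.ι.app W s) = 0
      rw [← Scheme.Hom.germ_stalkMap_apply, h (U.ι v) hv v.2, map_zero]
  constructor
  · intro hdom z hzU t ht
    haveI := hdom
    by_contra ht0
    obtain ⟨W, hW, hzW, -⟩ := exists_isAffineOpen_mem_and_subset (show z ∈ (⊤ : Z.Opens) from trivial)
    haveI : IsNoetherianRing Γ(Z, W) := IsLocallyNoetherian.component_noetherian ⟨W, hW⟩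
    letI := Z.presheaf.algebra_section_stalk ⟨z, hzW⟩
    haveI := FlatFP.isLocalization_stalk_primeAt hW hzW
    let q := WeakAss.primeAt z hzW
    obtain ⟨⟨n, c⟩, hn⟩ := IsLocalization.surj q.primeCompl t
    have hn0 : algebraMap Γ(Z, W) (Z.presheaf.stalk z) n ≠ 0 := fun h => ht0 (by
      rw [h] at hn
      exact (IsLocalization.map_units (Z.presheaf.stalk z) c).mul_left_eq_zero.1 hn)
    have hkill : ∀ a ∈ q, ∃ d : q.primeCompl, (d : Γ(Z, W)) * (a * n) = 0 := fun a ha => by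
      refine (IsLocalization.map_eq_zero_iff q.primeCompl (Z.presheaf.stalk z) _).1 ?_
      rw [map_mul, ← hn, ← mul_assoc, show algebraMap Γ(Z, W) (Z.presheaf.stalk z) a * t = 0 from ht _ ha, zero_mul]
    obtain ⟨G, hG⟩ := (IsNoetherian.noetherian q : q.FG)
    choose d hd using fun a : G => hkill a (hG ▸ Submodule.subset_span a.2)
    let D : q.primeCompl := ∏ a : G, d a
    let s := (D : Γ(Z, W)) * n
    have hs : ∀ a ∈ q, a * s = 0 := by
      intro a ha
      rw [← hG] at ha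
      induction ha using Submodule.span_induction with
      | mem x hx =>
        obtain ⟨k, hk⟩ : (d ⟨x, hx⟩ : Γ(Z, W)) ∣ (D : Γ(Z, W)) := by
          refine ⟨(∏ a ∈ Finset.univ.erase (⟨x, hx⟩ : G), d a : q.primeCompl), ?_⟩
          rw [← Submonoid.coe_mul, Finset.mul_prod_erase _ _ (Finset.mem_univ _)]
        show x * ((D : Γ(Z, W)) * n) = 0
        rw [hk, show x * ((d ⟨x, hx⟩ : Γ(Z, W)) * k * n) = k * ((d ⟨x, hx⟩ : Γ(Z, W)) * (x * n)) by ring,
          hd ⟨x, hx⟩, mul_zero]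
      | zero => exact zero_mul _
      | add x y _ _ hx hy => rw [add_mul, hx, hy, add_zero]
      | smul x y _ hy => rw [smul_eq_mul, mul_assoc, hy, mul_zero]
    have h0 : U.ι.app W s = 0 := by
      rw [hres]
      intro v hv hvU
      obtain ⟨a, haq, hav⟩ : ∃ a ∈ q, a ∉ WeakAss.primeAt v hv := by
        by_contra! hle
        exact hzU ((specializes_of_primeAt_le hW hv hzW hle).mem_open U.2 hvU)
      have h1 := congrArg (Z.presheaf.germ W v hv) (hs a haq)
      rw [map_mul, map_zero] at h1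
      exact ((Scheme.mem_basicOpen _ a v hv).1 (WeakAss.notMem_primeAt_iff.1 hav)).mul_right_eq_zero.1 h1
    have hs0 : s = 0 := U.ι.app_injective W (h0.trans (map_zero _).symm)
    refine hn0 ((IsLocalization.map_eq_zero_iff q.primeCompl (Z.presheaf.stalk z) n).2 ⟨D, hs0⟩)
  · intro h
    refine ⟨le_bot_iff.1 fun V => ?_⟩
    rw [Scheme.Hom.ker_apply, Scheme.IdealSheafData.ideal_bot, Pi.bot_apply]
    intro s hs
    rw [RingHom.mem_ker] at hs
    rw [Ideal.mem_bot]
    by_contra hs0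
    haveI : IsNoetherianRing Γ(Z, V.1) := IsLocallyNoetherian.component_noetherian V
    let N := Ideal.span ({s} : Set Γ(Z, V.1))
    obtain ⟨q, hq, -⟩ := exists_le_isAssociatedPrime_of_isNoetherianRing (M := N) Γ(Z, V.1)
      ⟨s, Ideal.subset_span rfl⟩ (fun h0 => hs0 (congrArg Subtype.val h0))
    obtain ⟨hqp, x, hx⟩ := isAssociatedPrime_iff.1 hq
    haveI := hqp
    obtain ⟨z, hz, hzq⟩ := exists_point_chart V.2 q
    subst hzq
    letI := Z.presheaf.algebra_section_stalk ⟨z, hz⟩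
    haveI := FlatFP.isLocalization_stalk_primeAt V.2 hz
    have hmem : ∀ a : Γ(Z, V.1), a ∈ WeakAss.primeAt z hz ↔ a * x.1 = 0 := fun a => by
      refine (SetLike.ext_iff.1 hx a).trans ?_
      rw [Submodule.mem_colon_singleton, Submodule.mem_bot, Subtype.ext_iff]
      rfl
    have hne : algebraMap Γ(Z, V.1) (Z.presheaf.stalk z) x.1 ≠ 0 := fun h0 => by
      obtain ⟨c, hc⟩ := (IsLocalization.map_eq_zero_iff (WeakAss.primeAt z hz).primeCompl _ _).1 h0
      exact c.2 ((hmem c).2 hc)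
    obtain ⟨r, hr⟩ := Ideal.mem_span_singleton'.1 x.2
    by_cases hzU : z ∈ U
    · refine hne ?_
      have h1 : U.ι.app V.1 x.1 = 0 := by
        rw [← hr, map_mul]
        exact mul_eq_zero_of_right _ hs
      exact (hres _ _).1 h1 z hz hzU
    · refine hne (h z hzU _ fun a ha => ?_)
      rw [← IsLocalization.AtPrime.map_eq_maximalIdeal (WeakAss.primeAt z hz) (Z.presheaf.stalk z)] at ha
      induction ha using Submodule.span_induction with
      | mem b hb =>
        obtain ⟨b, hb, rfl⟩ := hb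
        rw [← map_mul, (hmem b).1 hb, map_zero]
      | zero => exact zero_mul _
      | add b b' _ _ hb hb' => rw [add_mul, hb, hb', add_zero]
      | smul b b' _ hb => rw [smul_eq_mul, mul_assoc, hb, mul_zero]

variable {X Y : Scheme.{u}} (f : X ⟶ Y)

/-- In an affine chart, scheme theoretic density in a fibre is the absence of killed elements of the fibre
ring. -/
theorem stalk_cond_iff_killFree {V : Y.Opens} (hV : IsAffineOpen V) {W : X.Opens} (hW : IsAffineOpen W)
    (e : W ≤ f ⁻¹ᵁ V) [Algebra Γ(Y, V) Γ(X, W)] (halg : algebraMap Γ(Y, V) Γ(X, W) = (f.appLE V W e).hom)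
    [Algebra.FiniteType Γ(Y, V) Γ(X, W)] (U : X.Opens) (J : Ideal Γ(X, W))
    (hJ : PrimeSpectrum.zeroLocus (J : Set Γ(X, W)) = hW.fromSpec ⁻¹' (U : Set X)ᶜ) (y : Y) (hy : y ∈ V) :
    KillFree Γ(X, W) J (WeakAss.primeAt y hy) ↔
      ∀ z : f.fiber y, f.fiberι y z ∈ W → f.fiberι y z ∉ U → ∀ t : (f.fiber y).presheaf.stalk z,
        (∀ a ∈ maximalIdeal ((f.fiber y).presheaf.stalk z), a * t = 0) → t = 0 := by
  classical
  let p := WeakAss.primeAt y hy
  let B := Γ(X, W)
  have hJU : ∀ (x : X) (hx : x ∈ W), J ≤ WeakAss.primeAt x hx ↔ x ∉ U := fun x hx => by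
    have h := Set.ext_iff.1 hJ ⟨WeakAss.primeAt x hx, inferInstance⟩
    rw [PrimeSpectrum.mem_zeroLocus, Set.mem_preimage, RelAssCrit8.eq_of_primeAt_eq hW hx _ rfl] at h
    exact h
  have hdata : ∀ (z : f.fiber y) (hz : f.fiberι y z ∈ W),
      (WeakAss.primeAt (f.fiberι y z) hz).LiesOver p ∧
      (∀ u, u ∉ WeakAss.primeAt (f.fiberι y z) hz → IsUnit (FibPd.toFibStalk f y z hz u)) ∧
      (∀ t, ∃ b u, u ∉ WeakAss.primeAt (f.fiberι y z) hz ∧
        t * FibPd.toFibStalk f y z hz u = FibPd.toFibStalk f y z hz b) ∧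
      (∀ b, FibPd.toFibStalk f y z hz b = 0 ↔ ∃ u, u ∉ WeakAss.primeAt (f.fiberι y z) hz ∧
        (u * b) • ((1 : B) ⊗ₜ[Γ(Y, V)] (1 : p.ResidueField)) = 0) := by
    intro z hz
    have hfz : f (f.fiberι y z) = y := (f.range_fiberι y).le ⟨z, rfl⟩
    have hp : WeakAss.primeAt (f (f.fiberι y z)) (e hz) = p := by simp only [p, hfz]
    have hover : (WeakAss.primeAt (f.fiberι y z) hz).LiesOver p := ⟨by
      rw [← hp]
      show _ = (WeakAss.primeAt (f.fiberι y z) hz).comap _
      rw [halg]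
      exact (RelAssCrit8.comap_primeAt f e (f.fiberι y z) hz).symm⟩
    obtain ⟨h1, h2, h3⟩ := FibPd.toFibStalk_spec f hV hW e y z hz
    rw [← QCoh.primeAt_eq_primeIdealOf hW hz] at h1 h2 h3
    refine ⟨hover, h1, h2, fun b => ?_⟩
    rw [h3 b, ← halg]
    have hcom : (WeakAss.primeAt (f.fiberι y z) hz).comap (algebraMap Γ(Y, V) B) = p := hover.over.symm
    rw [hcom]
    constructor
    · rintro ⟨u, hu, hub⟩
      refine ⟨u, hu, ?_⟩
      refine smul_eq_zero_of_mem le_rfl ?_ _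
      rw [Ideal.smul_top_eq_map]
      exact hub
    · rintro ⟨u, hu, hub⟩
      rw [TensorProduct.smul_tmul', smul_eq_mul, mul_one] at hub
      obtain ⟨r, hr, hrn⟩ := WeakAssFib.exists_smul_mem_of_tmul_one_eq_zero p (n := u * b) hub
      refine ⟨algebraMap Γ(Y, V) B r * u, fun h' => ((inferInstance : (WeakAss.primeAt (f.fiberι y z) hz).IsPrime).mem_or_mem h').elim
        (fun h'' => hr ((Ideal.mem_of_liesOver _ p r).2 h'')) hu, ?_⟩
      rw [Ideal.smul_top_eq_map, Algebra.smul_def] at hrn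
      rw [mul_assoc]
      exact hrn
  constructor
  · intro hkf z hzW hzU t ht
    obtain ⟨hover, hunit, hsurj, hzero⟩ := hdata z hzW
    haveI := hover
    let q := WeakAss.primeAt (f.fiberι y z) hzW
    obtain ⟨b, u, hu, htb⟩ := hsurj t
    by_contra ht0
    let w := b • ((1 : B) ⊗ₜ[Γ(Y, V)] (1 : p.ResidueField))
    have hb0 : FibPd.toFibStalk f y z hzW b ≠ 0 := fun h0 => ht0 (by
      rw [h0] at htb
      exact (hunit u hu).mul_left_eq_zero.1 htb)
    refine (killFree_iff (N := B) J p).1 hkf q ?_ ((hJU _ hzW).2 hzU)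
    refine RG6.mem_ass_of_local p q w (fun c hc => ?_) fun c hc => ?_
    · by_contra hcq
      refine hb0 ((hzero b).2 ⟨c, hcq, ?_⟩)
      rw [mul_smul]
      exact hc
    · obtain ⟨v, hv, hvc⟩ := (hzero (c * b)).1 (by
        rw [map_mul, ← htb, ← mul_assoc]
        refine mul_eq_zero_of_left (ht _ ?_) _
        rw [IsLocalRing.mem_maximalIdeal]
        intro hc'
        have hcu : IsUnit ((X.presheaf.germ W (f.fiberι y z) hzW c)) :=
          IsUnit.of_map ((f.fiberι y).stalkMap z).hom _ hc'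
        exact (IsLocalRing.notMem_maximalIdeal.2 hcu) hc)
      refine ⟨v, hv, ?_⟩
      show (v * c) • b • _ = 0
      rw [smul_smul, mul_assoc]
      exact hvc
  · intro h
    rw [killFree_iff]
    intro q _ hover hass hJq
    obtain ⟨x, hxW, hxq⟩ := exists_point_chart hW q
    subst hxq
    have h1 : WeakAss.primeAt (f x) (e hxW) = p := by
      rw [← RelAssCrit8.comap_primeAt f e x hxW, ← halg]
      exact hover.over.symm
    have hfx : f x = y :=
      (RelAssCrit8.eq_of_primeAt_eq hV (e hxW) ⟨p, inferInstance⟩ h1).symm.trans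
        (RelAssCrit8.eq_of_primeAt_eq hV hy _ rfl)
    obtain ⟨z, rfl⟩ := (f.range_fiberι y).ge (show x ∈ f ⁻¹' {y} from hfx)
    obtain ⟨-, hunit, hsurj, hzero⟩ := hdata z hxW
    let q := WeakAss.primeAt (f.fiberι y z) hxW
    obtain ⟨w, hw⟩ := RG6.exists_of_mem_ass p q hass
    obtain ⟨r, hr, n, hn⟩ := WeakAssFib.exists_smul_eq_tmul_one p w
    have hrq : algebraMap Γ(Y, V) B r ∉ q := fun h' => hr ((Ideal.mem_of_liesOver q p r).2 h')
    have hn' : n • ((1 : B) ⊗ₜ[Γ(Y, V)] (1 : p.ResidueField)) = r • w := by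
      rw [hn, TensorProduct.smul_tmul', smul_eq_mul, mul_one]
    have ht0 : FibPd.toFibStalk f y z hxW n ≠ 0 := fun h0 => by
      obtain ⟨v, hv, hvn⟩ := (hzero n).1 h0
      rw [mul_smul, hn', ← algebraMap_smul B r w, smul_smul, hw] at hvn
      exact ((inferInstance : q.IsPrime).mem_or_mem hvn).elim hv hrq
    refine ht0 (h z hxW ((hJU _ hxW).1 hJq) _ fun a ha => ?_)
    obtain ⟨b, u, hu, hab⟩ := hsurj a
    have hbq : b ∈ q := by
      by_contra hbq
      exact (IsLocalRing.mem_maximalIdeal _).1 ha (isUnit_of_mul_isUnit_left (hab ▸ hunit b hbq))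
    refine (hunit u hu).mul_left_eq_zero.1 ?_
    rw [mul_right_comm, hab, ← map_mul]
    refine (hzero _).2 ⟨1, (Ideal.ne_top_iff_one q).1 Ideal.IsPrime.ne_top', ?_⟩
    rw [one_mul, mul_smul, hn', ← algebraMap_smul B r w, smul_smul, hw]
    exact q.mul_mem_right _ hbq

/-- Scheme theoretic density in the fibres persists near the generic point. -/
theorem exists_open_schDom [IrreducibleSpace ↑Y] [LocallyOfFiniteType f] [QuasiCompact f] (U : X.Opens)
    (h : IsSchemeTheoreticallyDominant (f.fiberι (genericPoint ↑Y) ⁻¹ᵁ U).ι) :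
    ∃ O : Y.Opens, (O : Set ↑Y).Nonempty ∧ ∀ y ∈ O, IsSchemeTheoreticallyDominant (f.fiberι y ⁻¹ᵁ U).ι := by
  classical
  have hnoeth : ∀ y : Y, IsLocallyNoetherian (f.fiber y) := fun y => by
    haveI : LocallyOfFiniteType (f.fiberToSpecResidueField y) := MorphismProperty.pullback_snd f _ inferInstance
    exact LocallyOfFiniteType.isLocallyNoetherian (f.fiberToSpecResidueField y)
  obtain ⟨V, hV, hη, -⟩ := exists_isAffineOpen_mem_and_subset (show genericPoint ↑Y ∈ (⊤ : Y.Opens) from trivial)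
  have hch : ∀ x : f ⁻¹ᵁ V, ∃ W : X.Opens, IsAffineOpen W ∧ x.1 ∈ W ∧ W ≤ f ⁻¹ᵁ V := fun x => by
    obtain ⟨W, hW, hxW, e⟩ := exists_isAffineOpen_mem_and_subset x.2
    exact ⟨W, hW, hxW, e⟩
  choose W hW hxW hle using hch
  obtain ⟨s, hs⟩ := (f.isCompact_preimage (U := V) hV.isCompact).elim_finite_subcover
    (fun x => (W x : Set X)) (fun x => (W x).2) (fun x hx => Set.mem_iUnion.2 ⟨⟨x, hx⟩, hxW ⟨x, hx⟩⟩)
  haveI := hnoeth (genericPoint ↑Y)
  rw [schDom_iff] at h
  have hdich : ∀ x : f ⁻¹ᵁ V, ∃ a : Γ(Y, V), genericPoint ↑Y ∈ Y.basicOpen a ∧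
      ∀ y ∈ Y.basicOpen a, ∀ z : f.fiber y, f.fiberι y z ∈ W x → f.fiberι y z ∉ U →
        ∀ t : (f.fiber y).presheaf.stalk z,
          (∀ a ∈ maximalIdeal ((f.fiber y).presheaf.stalk z), a * t = 0) → t = 0 := by
    intro x
    letI : Algebra Γ(Y, V) Γ(X, W x) := (f.appLE V (W x) (hle x)).hom.toAlgebra
    haveI : Algebra.FiniteType Γ(Y, V) Γ(X, W x) :=
      HasRingHomProperty.appLE @LocallyOfFiniteType f ‹_› ⟨V, hV⟩ ⟨W x, hW x⟩ (hle x)
    obtain ⟨J, hJ, -⟩ := exists_chartIdeal (hW x) U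
    obtain ⟨a, ha, hd⟩ := exists_killFree_dichotomy Γ(X, W x) J (WeakAss.primeAt (genericPoint ↑Y) hη)
    refine ⟨a, WeakAss.notMem_primeAt_iff.1 ha, fun y hy => ?_⟩
    have hyV : y ∈ V := Y.basicOpen_le a hy
    have hlep : WeakAss.primeAt (genericPoint ↑Y) hη ≤ WeakAss.primeAt y hyV := by
      intro b hb
      by_contra hb'
      exact WeakAss.notMem_primeAt_iff.2
        ((genericPoint_specializes y).mem_open (Y.basicOpen b).2 (WeakAss.notMem_primeAt_iff.1 hb')) hb
    refine (stalk_cond_iff_killFree f hV (hW x) (hle x) rfl U J hJ y hyV).1 ?_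
    rcases hd with hd | hd
    · exact hd _ hlep (WeakAss.notMem_primeAt_iff.2 hy)
    · refine absurd ((stalk_cond_iff_killFree f hV (hW x) (hle x) rfl U J hJ _ hη).2 ?_) (hd _ le_rfl ha)
      exact fun z _ hzU => h z hzU
  choose a haη ha using hdich
  let O : Y.Opens := ⟨(V : Set ↑Y) ∩ ⋂ x ∈ s, (Y.basicOpen (a x) : Set ↑Y),
    V.2.inter (isOpen_biInter_finset fun x _ => (Y.basicOpen (a x)).2)⟩
  refine ⟨O, ⟨genericPoint ↑Y, hη, Set.mem_iInter₂.2 fun x _ => haη x⟩, fun y hy => ?_⟩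
  haveI := hnoeth y
  rw [schDom_iff]
  intro z hzU
  obtain ⟨i, hi, hzi⟩ := Set.mem_iUnion₂.1 (hs (show f.fiberι y z ∈ (f ⁻¹ᵁ V : Set X) by
    show f (f.fiberι y z) ∈ V
    rw [(f.range_fiberι y).le ⟨z, rfl⟩]
    exact hy.1))
  exact ha i y (Set.mem_iInter₂.1 hy.2 i hi) z hzi hzU

end GrothLib.RelAss13
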