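import Groth.Agent.Lib.RelAss13.Cons
import Groth.Agent.Lib.RelAssDim8.Scheme

/-!
Relative associated points of fibres inside an open: generic behaviour and constructibility.
-/

set_option autoImplicit false
set_option linter.style.haveILetI false
set_option linter.unusedSectionVars false
set_option backward.isDefEq.respectTransparency false
universe u

open CategoryTheory CategoryTheory.Limits AlgebraicGeometry IsLocalRing TopologicalSpace
open scoped TensorProduct

noncomputable section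

namespace GrothLib.RelAss13

/-- A top section gives an element of the fibre module killed by the prime. -/
theorem exists_killed_of_isTop {A B : Type u} [CommRing A] [CommRing B] [Algebra A B] [Algebra.FiniteType A B]
    {N : Type u} [AddCommGroup N] [Module B N] [Module A N] [IsScalarTower A B N]
    (p : Ideal A) [p.IsPrime] (q : Ideal B) [q.IsPrime] [q.LiesOver p] {n : N} (h : RelAssDim8.IsTop p q n) :
    ∃ w : N ⊗[A] p.ResidueField, w ≠ 0 ∧ ∀ b ∈ q, b • w = 0 := by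
  classical
  obtain ⟨G, hG, hgen⟩ := GrothLib.WeakAssFib.exists_gens p (S := B) q
  let P : N ⊗[A] p.ResidueField → Prop := fun w => ∀ s ∉ q, s • w ≠ 0
  let w₀ := n ⊗ₜ[A] (1 : p.ResidueField)
  have hAq : ∀ r : A, r ∉ p → algebraMap A B r ∉ q := fun r hr h' => hr ((Ideal.mem_of_liesOver q p r).2 h')
  have hP₀ : P w₀ := fun s hs h0 => by
    obtain ⟨r, hr, hrn⟩ := GrothLib.WeakAssFib.exists_smul_mem_of_tmul_one_eq_zero p
      (n := s • n) (by rw [← TensorProduct.smul_tmul']; exact h0)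
    refine h.1 (algebraMap A B r * s) (fun h' => ((inferInstance : q.IsPrime).mem_or_mem h').elim (hAq r hr) hs) ?_
    rw [mul_smul, algebraMap_smul]
    exact hrn
  have hnil : ∀ g ∈ q, ∃ k : ℕ, ∃ u ∉ q, (u * g ^ k) • w₀ = 0 := fun g hg => by
    obtain ⟨k, u, hu, hk⟩ := h.2 g hg
    refine ⟨k, u, hu, ?_⟩
    rw [TensorProduct.smul_tmul']
    exact RG6.tmul_one_eq_zero_of_mem p hk
  -- kill the generators one at a time
  have key : ∀ F : Finset B, (F : Set B) ⊆ q → ∃ c : B, P (c • w₀) ∧ ∀ g ∈ F, g • c • w₀ = 0 := by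
    intro F
    induction F using Finset.induction_on with
    | empty => exact fun _ => ⟨1, by rwa [one_smul], fun g hg => absurd hg (Finset.notMem_empty g)⟩
    | insert g F hgF ih =>
      intro hF
      rw [Finset.coe_insert, Set.insert_subset_iff] at hF
      obtain ⟨c, hPc, hc⟩ := ih hF.2
      obtain ⟨k, u, hu, hk⟩ := hnil g hF.1
      have hex : ∃ e : ℕ, ∃ s ∉ q, s • g ^ e • c • w₀ = 0 := ⟨k, u, hu, by
        rw [smul_smul, smul_comm, hk, smul_zero]⟩
      have hpos : Nat.find hex ≠ 0 := fun h0 => by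
        obtain ⟨s, hs, hs0⟩ := Nat.find_spec hex
        rw [h0, pow_zero, one_smul] at hs0
        exact hPc s hs hs0
      obtain ⟨e, he⟩ := Nat.exists_eq_succ_of_ne_zero hpos
      obtain ⟨s, hs, hs0⟩ := Nat.find_spec hex
      rw [he, pow_succ', mul_smul] at hs0
      refine ⟨s * g ^ e * c, fun s' hs' h0 => ?_, fun g' hg' => ?_⟩
      · refine Nat.find_min hex (m := e) (by omega) ⟨s' * s, fun h' => ((inferInstance : q.IsPrime).mem_or_mem h').elim hs' hs, ?_⟩
        rw [← h0]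
        simp only [smul_smul, mul_assoc]
      · rcases Finset.mem_insert.1 hg' with rfl | hg'
        · rw [mul_smul, mul_smul, smul_comm g' s]
          exact hs0
        · rw [mul_smul, mul_smul, smul_comm g', smul_comm g', hc g' hg', smul_zero, smul_zero]
  obtain ⟨c, hPc, hc⟩ := key G hG
  refine ⟨c • w₀, fun h0 => hPc 1 ((Ideal.ne_top_iff_one q).1 Ideal.IsPrime.ne_top') (by rw [one_smul, h0]), ?_⟩
  intro b hb
  obtain ⟨r, hr, hrb⟩ := hgen b hb
  refine smul_fibre_injective hr ?_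
  rw [← smul_assoc]
  obtain ⟨x, hx, y, hy, hxy⟩ := Submodule.mem_sup.1 hrb
  rw [← hxy, add_smul]
  clear hxy
  have hx0 : x • c • w₀ = 0 := by
    induction hx using Submodule.span_induction with
    | mem g hg => exact hc g hg
    | zero => exact zero_smul _ _
    | add a b _ _ ha hb => rw [add_smul, ha, hb, add_zero]
    | smul a b _ hb => rw [smul_eq_mul, mul_smul, hb, smul_zero]
  rw [hx0, zero_add]
  refine smul_eq_zero_of_mem le_rfl ?_ _
  rw [Ideal.smul_top_eq_map]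
  exact hy

variable {X Y : Scheme.{u}} (f : X ⟶ Y) (F : X.Modules) [F.IsQuasicoherent]

/-- Absence of killed elements of the fibre module is containment of the associated points of the fibre in
the open. -/
theorem killFree_iff_relAss {V : Y.Opens} (hV : IsAffineOpen V) {W : X.Opens} (hW : IsAffineOpen W)
    (e : W ≤ f ⁻¹ᵁ V) [Algebra Γ(Y, V) Γ(X, W)] (halg : algebraMap Γ(Y, V) Γ(X, W) = (f.appLE V W e).hom)
    [Module Γ(Y, V) Γ(F, W)] [IsScalarTower Γ(Y, V) Γ(X, W) Γ(F, W)] [Algebra.FiniteType Γ(Y, V) Γ(X, W)]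
    [Module.Finite Γ(X, W) Γ(F, W)] (U : X.Opens) (J : Ideal Γ(X, W))
    (hJ : PrimeSpectrum.zeroLocus (J : Set Γ(X, W)) = hW.fromSpec ⁻¹' (U : Set X)ᶜ) (y : Y) (hy : y ∈ V) :
    KillFree Γ(F, W) J (WeakAss.primeAt y hy) ↔ ∀ x ∈ MoreMor.relAss f F, x ∈ W → f x = y → x ∈ U := by
  constructor
  · intro h x hx hxW hxy
    subst hxy
    by_contra hxU
    haveI : (WeakAss.primeAt x hxW).LiesOver (WeakAss.primeAt (f x) (e hxW)) :=
      ⟨by
        show _ = (WeakAss.primeAt x hxW).comap _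
        rw [halg]
        exact (RelAssCrit8.comap_primeAt f e x hxW).symm⟩
    obtain ⟨n, hn⟩ := RelAssDim8.exists_isTop f F hV hW e x hxW halg hx
    obtain ⟨w, hw0, hw⟩ := exists_killed_of_isTop _ _ hn
    refine hw0 (h w fun b hb => hw b ?_)
    have hmem : (⟨WeakAss.primeAt x hxW, inferInstance⟩ : PrimeSpectrum Γ(X, W)) ∈
        PrimeSpectrum.zeroLocus (J : Set Γ(X, W)) := by
      rw [hJ]
      show hW.fromSpec _ ∉ (U : Set X)
      rw [RelAssCrit8.eq_of_primeAt_eq hW hxW _ rfl]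
      exact hxU
    exact hmem hb
  · intro h
    rw [killFree_iff]
    intro q _ hover hass hJq
    have hx : ∃ (x : X) (hxW : x ∈ W), WeakAss.primeAt x hxW = q ∧ x ∉ (U : Set X) := by
      let P : Spec Γ(X, W) := ⟨q, inferInstance⟩
      have hPW : hW.fromSpec P ∈ W := hW.range_fromSpec.subset ⟨P, rfl⟩
      have hmem : (⟨q, inferInstance⟩ : PrimeSpectrum Γ(X, W)) ∈ PrimeSpectrum.zeroLocus (J : Set Γ(X, W)) := hJq
      rw [hJ] at hmem
      exact ⟨_, hPW, RelAssCrit8.primeAt_fromSpec hW P hPW, hmem⟩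
    obtain ⟨x, hxW, hq, hnU⟩ := hx
    subst hq
    have h1 : WeakAss.primeAt (f x) (e hxW) = WeakAss.primeAt y hy :=
      (RelAssCrit8.comap_primeAt f e x hxW).symm.trans (by rw [← halg]; exact hover.over.symm)
    have hfy : f x = y :=
      (RelAssCrit8.eq_of_primeAt_eq hV (e hxW) ⟨WeakAss.primeAt y hy, inferInstance⟩ h1).symm.trans
        (RelAssCrit8.eq_of_primeAt_eq hV hy _ rfl)
    exact hnU (h _ (RelAssCrit8.mem_relAss f F hV hW e x hxW halg _ h1.symm hass) hxW hfy)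

/-- The ideal of the closed complement of an open in an affine chart. -/
theorem exists_chartIdeal {W : X.Opens} (hW : IsAffineOpen W) (U : X.Opens) :
    ∃ J : Ideal Γ(X, W), PrimeSpectrum.zeroLocus (J : Set Γ(X, W)) = hW.fromSpec ⁻¹' (U : Set X)ᶜ ∧
      (IsCompact ((W : Set X) ∩ U) → J.FG) := by
  by_cases hc : IsCompact ((W : Set X) ∩ U)
  · have hc' : IsCompact (hW.fromSpec ⁻¹' (U : Set X)) := by
      rw [hW.fromSpec.isOpenEmbedding.isInducing.isCompact_iff, Set.image_preimage_eq_inter_range, hW.range_fromSpec,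
        Set.inter_comm]
      exact hc
    obtain ⟨J, hJfg, hJ⟩ := PrimeSpectrum.isCompact_isOpen_iff_ideal.1
      ⟨hc', U.2.preimage hW.fromSpec.continuous⟩
    exact ⟨J, by rw [Set.preimage_compl, ← hJ, compl_compl], fun _ => hJfg⟩
  · obtain ⟨J, hJ⟩ := (PrimeSpectrum.isClosed_iff_zeroLocus_ideal _).1
      (U.2.isClosed_compl.preimage hW.fromSpec.continuous)
    exact ⟨J, hJ.symm, fun h => absurd h hc⟩

/-- Over an irreducible base the behaviour of the associated points of the fibres relative to an open is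
constant near the generic point, in an affine chart. -/
theorem exists_relAss_dichotomy [LocallyOfFiniteType f] (hFt : CohB1.IsFT F) [IrreducibleSpace ↑Y] (U : X.Opens)
    {V : Y.Opens} (hV : IsAffineOpen V) (hη : genericPoint ↑Y ∈ V) {W : X.Opens} (hW : IsAffineOpen W)
    (e : W ≤ f ⁻¹ᵁ V) :
    ∃ O : Y.Opens, genericPoint ↑Y ∈ O ∧ ∀ y ∈ O,
      ((∀ x ∈ MoreMor.relAss f F, x ∈ W → f x = y → x ∈ U) ↔
        ∀ x ∈ MoreMor.relAss f F, x ∈ W → f x = genericPoint ↑Y → x ∈ U) := by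
  letI : Algebra Γ(Y, V) Γ(X, W) := (f.appLE V W e).hom.toAlgebra
  haveI : Algebra.FiniteType Γ(Y, V) Γ(X, W) :=
    HasRingHomProperty.appLE @LocallyOfFiniteType f ‹_› ⟨V, hV⟩ ⟨W, hW⟩ e
  letI : Module Γ(Y, V) Γ(F, W) := Module.compHom _ (algebraMap Γ(Y, V) Γ(X, W))
  haveI : IsScalarTower Γ(Y, V) Γ(X, W) Γ(F, W) := IsScalarTower.of_algebraMap_smul fun _ _ => rfl
  haveI := QCoh.moduleFinite_of_isFiniteType F hFt hW
  obtain ⟨J, hJ, -⟩ := exists_chartIdeal hW U
  let P := WeakAss.primeAt (genericPoint ↑Y) hη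
  obtain ⟨a, ha, hd⟩ := exists_killFree_dichotomy Γ(F, W) J P
  have hmem : ∀ (y : Y) (hy : y ∈ V), (y ∈ Y.basicOpen a ↔ a ∉ WeakAss.primeAt y hy) := fun y hy =>
    WeakAss.notMem_primeAt_iff.symm
  refine ⟨Y.basicOpen a, (hmem _ hη).2 ha, fun y hy => ?_⟩
  have hyV : y ∈ V := Y.basicOpen_le a hy
  have hle : P ≤ WeakAss.primeAt y hyV := by
    intro b hb
    by_contra hb'
    have h1 : y ∈ Y.basicOpen b := WeakAss.notMem_primeAt_iff.1 hb'
    exact WeakAss.notMem_primeAt_iff.2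
      ((genericPoint_specializes y).mem_open (Y.basicOpen b).2 h1) hb
  rw [← killFree_iff_relAss f F hV hW e rfl U J hJ y hyV, ← killFree_iff_relAss f F hV hW e rfl U J hJ _ hη]
  rcases hd with hd | hd
  · exact iff_of_true (hd _ hle ((hmem y hyV).1 hy)) (hd P le_rfl ha)
  · exact iff_of_false (hd _ hle ((hmem y hyV).1 hy)) (hd P le_rfl ha)

/-- Associated points of the fibres stay in an open near the generic point. -/
theorem exists_open_relAss_subset [LocallyOfFiniteType f] [QuasiCompact f] (hFt : CohB1.IsFT F)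
    [IrreducibleSpace ↑Y] (U : X.Opens) (h : ∀ x ∈ MoreMor.relAss f F, f x = genericPoint ↑Y → x ∈ U) :
    ∃ O : Y.Opens, (O : Set ↑Y).Nonempty ∧ ∀ x ∈ MoreMor.relAss f F, f x ∈ O → x ∈ U := by
  classical
  obtain ⟨V, hV, hη, -⟩ := exists_isAffineOpen_mem_and_subset (show genericPoint ↑Y ∈ (⊤ : Y.Opens) from trivial)
  have hch : ∀ x : f ⁻¹ᵁ V, ∃ W : X.Opens, IsAffineOpen W ∧ x.1 ∈ W ∧ W ≤ f ⁻¹ᵁ V := fun x => by
    obtain ⟨W, hW, hxW, e⟩ := exists_isAffineOpen_mem_and_subset x.2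
    exact ⟨W, hW, hxW, e⟩
  choose W hW hxW hle using hch
  obtain ⟨s, hs⟩ := (f.isCompact_preimage (U := V) hV.isCompact).elim_finite_subcover
    (fun x => (W x : Set X)) (fun x => (W x).2) (fun x hx => Set.mem_iUnion.2 ⟨⟨x, hx⟩, hxW ⟨x, hx⟩⟩)
  choose O hηO hO using fun x => exists_relAss_dichotomy f F hFt U hV hη (hW x) (hle x)
  let O' : Y.Opens := ⟨(V : Set ↑Y) ∩ ⋂ x ∈ s, (O x : Set ↑Y), V.2.inter (isOpen_biInter_finset fun x _ => (O x).2)⟩
  refine ⟨O', ⟨genericPoint ↑Y, hη, Set.mem_iInter₂.2 fun x _ => hηO x⟩, fun x hx hxO => ?_⟩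
  obtain ⟨i, hi, hxi⟩ := Set.mem_iUnion₂.1 (hs (show x ∈ (f ⁻¹ᵁ V : Set X) from hxO.1))
  exact (hO i (f x) (Set.mem_iInter₂.1 hxO.2 i hi)).2 (fun x' h1 _ h3 => h x' h1 h3) x hx hxi rfl

/-- An associated point of the generic fibre outside an open persists near the generic point. -/
theorem exists_open_relAss_not_subset [LocallyOfFiniteType f] (hFt : CohB1.IsFT F)
    [IrreducibleSpace ↑Y] (U : X.Opens) (h : ∃ x ∈ MoreMor.relAss f F, f x = genericPoint ↑Y ∧ x ∉ U) :
    ∃ O : Y.Opens, (O : Set ↑Y).Nonempty ∧ ∀ y ∈ O, ∃ x ∈ MoreMor.relAss f F, f x = y ∧ x ∉ U := by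
  obtain ⟨x, hx, hxη, hxU⟩ := h
  obtain ⟨V, hV, hxV, -⟩ := exists_isAffineOpen_mem_and_subset (show f x ∈ (⊤ : Y.Opens) from trivial)
  obtain ⟨W, hW, hxW, e⟩ := exists_isAffineOpen_mem_and_subset (show x ∈ f ⁻¹ᵁ V from hxV)
  obtain ⟨O, hηO, hO⟩ := exists_relAss_dichotomy f F hFt U hV (hxη ▸ hxV) hW e
  refine ⟨O, ⟨_, hηO⟩, fun y hy => ?_⟩
  by_contra! hne
  exact hxU ((hO y hy).1 (fun x' h1 _ h3 => hne x' h1 h3) x hx hxW hxη)

/-- The locus of fibres whose associated points lie in a quasi-compact open is locally constructible. -/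
theorem isLocallyConstructible_relAss_subset [LocallyOfFinitePresentation f] [QuasiCompact f] [QuasiSeparated f]
    (hFp : CohB1.IsFP F) (U : X.Opens) [QuasiCompact (U.ι ≫ f)] :
    Topology.IsLocallyConstructible {y : ↑Y | ∀ x ∈ MoreMor.relAss f F, f x = y → x ∈ U} := by
  classical
  intro y₀
  obtain ⟨V, hV, hyV, -⟩ := exists_isAffineOpen_mem_and_subset (show y₀ ∈ (⊤ : Y.Opens) from trivial)
  refine ⟨(V : Set ↑Y), V.2.mem_nhds hyV, V.2, ?_⟩
  have hch : ∀ x : f ⁻¹ᵁ V, ∃ W : X.Opens, IsAffineOpen W ∧ x.1 ∈ W ∧ W ≤ f ⁻¹ᵁ V := fun x => by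
    obtain ⟨W, hW, hxW, e⟩ := exists_isAffineOpen_mem_and_subset x.2
    exact ⟨W, hW, hxW, e⟩
  choose W hW hxW hle using hch
  obtain ⟨s, hs⟩ := (f.isCompact_preimage (U := V) hV.isCompact).elim_finite_subcover
    (fun x => (W x : Set X)) (fun x => (W x).2) (fun x hx => Set.mem_iUnion.2 ⟨⟨x, hx⟩, hxW ⟨x, hx⟩⟩)
  have hUV : IsCompact ((U : Set X) ∩ (f ⁻¹ᵁ V : Set X)) := by
    have h1 := ((U.ι ≫ f).isCompact_preimage (U := V) hV.isCompact).image U.ι.continuous
    convert h1 using 1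
    rw [show ((U.ι ≫ f) ⁻¹ᵁ V : Set U.toScheme) = U.ι ⁻¹' (f ⁻¹ᵁ V : Set X) from rfl,
      Set.image_preimage_eq_inter_range, Scheme.Opens.range_ι, Set.inter_comm]
  -- the charts
  have hE : ∀ x : f ⁻¹ᵁ V, Topology.IsConstructible
      (Subtype.val ⁻¹' {y : ↑Y | ∀ z ∈ MoreMor.relAss f F, z ∈ W x → f z = y → z ∈ U} : Set (V : Set ↑Y)) := by
    intro x
    letI : Algebra Γ(Y, V) Γ(X, W x) := (f.appLE V (W x) (hle x)).hom.toAlgebra
    haveI : Algebra.FinitePresentation Γ(Y, V) Γ(X, W x) :=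
      HasRingHomProperty.appLE @LocallyOfFinitePresentation f ‹_› ⟨V, hV⟩ ⟨W x, hW x⟩ (hle x)
    letI : Module Γ(Y, V) Γ(F, W x) := Module.compHom _ (algebraMap Γ(Y, V) Γ(X, W x))
    haveI : IsScalarTower Γ(Y, V) Γ(X, W x) Γ(F, W x) := IsScalarTower.of_algebraMap_smul fun _ _ => rfl
    haveI := GrothLib.FlatFP.finitePresentation_sections F hFp (hW x)
    haveI : Module.Finite Γ(X, W x) Γ(F, W x) := inferInstance
    obtain ⟨J, hJ, hJfg⟩ := exists_chartIdeal (hW x) U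
    have hWU : IsCompact ((W x : Set X) ∩ U) := by
      have h := (f.isQuasiSeparated_preimage hV.isQuasiSeparated) (W x : Set X) ((U : Set X) ∩ (f ⁻¹ᵁ V : Set X))
        (hle x) (W x).2 (hW x).isCompact Set.inter_subset_right (U.2.inter (f ⁻¹ᵁ V).2) hUV
      convert h using 1
      rw [Set.inter_comm (U : Set X), ← Set.inter_assoc]
      exact (Set.inter_eq_left.2 (hle x)).symm ▸ rfl
    have hc := Scheme.Hom.isConstructible_preimage hV.isoSpec.hom (isConstructible_killFree Γ(F, W x) J (hJfg hWU))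
    refine (congrArg Topology.IsConstructible (Set.ext fun y => ?_)).mpr hc
    show (∀ z ∈ MoreMor.relAss f F, z ∈ W x → f z = y.1 → z ∈ U) ↔
      KillFree Γ(F, W x) J (hV.primeIdealOf ⟨y.1, y.2⟩).asIdeal
    rw [← killFree_iff_relAss f F hV (hW x) (hle x) rfl U J hJ y.1 y.2]
    congr! 1
    exact congrArg PrimeSpectrum.asIdeal (QCoh.primeAt_eq_primeIdealOf hV y.2)
  have hset : (Subtype.val ⁻¹' {y : ↑Y | ∀ x ∈ MoreMor.relAss f F, f x = y → x ∈ U} : Set (V : Set ↑Y)) =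
      ⋂ x ∈ s, (Subtype.val ⁻¹' {y : ↑Y | ∀ z ∈ MoreMor.relAss f F, z ∈ W x → f z = y → z ∈ U}) := by
    ext ⟨y, hy⟩
    simp only [Set.mem_preimage, Set.mem_iInter, Set.mem_setOf_eq]
    refine ⟨fun h i _ z h1 _ h3 => h z h1 h3, fun h z h1 h3 => ?_⟩
    obtain ⟨i, hi, hzi⟩ := Set.mem_iUnion₂.1 (hs (show z ∈ (f ⁻¹ᵁ V : Set X) from (h3 ▸ hy : f z ∈ V)))
    exact h i hi z h1 hzi h3
  rw [hset]
  exact Topology.IsConstructible.biInter s.finite_toSet fun x _ => hE x

end GrothLib.RelAss13
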