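import Groth.Agent.Lib.RelAss13.Scheme
import Groth.Agent.Lib.RG6.Specialize
import Groth.Agent.Lib.RG6.AssFlat
import Groth.Agent.Lib.RG6.Impure.Basic
import Groth.Agent.Lib.FlatteningHens1.Dev
import Groth.Agent.Lib.PureDesc13.Stage

/-!
Specializations of relative associated points.
-/

set_option autoImplicit false
set_option linter.style.haveILetI false
set_option linter.unusedSectionVars false
universe u

open TensorProduct

noncomputable section

namespace GrothLib.RelAss13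

attribute [local instance] Algebra.TensorProduct.rightAlgebra

/-- A top section gives an associated point of the fibre. -/
theorem mem_ass_of_isTop {A B : Type u} [CommRing A] [CommRing B] [Algebra A B] [Algebra.FiniteType A B]
    {N : Type u} [AddCommGroup N] [Module B N] [Module A N] [IsScalarTower A B N]
    (p : Ideal A) [p.IsPrime] (q : Ideal B) [q.IsPrime] [q.LiesOver p] {n : N} (h : RelAssDim8.IsTop p q n) :
    FlatCA.fiberIdeal p q ∈ associatedPrimes (p.Fiber B) (FlatCA.fiberMod p B N) := by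
  classical
  obtain ⟨G, hG, hgen⟩ := GrothLib.WeakAssFib.exists_gens p (S := B) q
  let P : N ⊗[A] p.ResidueField → Prop := fun w => ∀ s ∉ q, s • w ≠ 0
  let w₀ := n ⊗ₜ[A] (1 : p.ResidueField)
  have hAq : ∀ r : A, r ∉ p → algebraMap A B r ∉ q := fun r hr h' => hr ((Ideal.mem_of_liesOver q p r).2 h')
  have hP₀ : P w₀ := fun s hs h0 => by
    obtain ⟨r, hr, hrn⟩ := GrothLib.WeakAssFib.exists_smul_mem_of_tmul_one_eq_zero p
      (n := s • n) (by rw [← TensorProduct.smul_tmul']; exact h0)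
    refine h.1 (algebraMap A B r * s) (fun h' => ((inferInstance : q.IsPrime).mem_or_mem h').elim (hAq r hr) hs) ?_
    rw [mul_smul, algebraMap_smul]
    exact hrn
  have hnil : ∀ g ∈ q, ∃ k : ℕ, ∃ u ∉ q, (u * g ^ k) • w₀ = 0 := fun g hg => by
    obtain ⟨k, u, hu, hk⟩ := h.2 g hg
    refine ⟨k, u, hu, ?_⟩
    rw [TensorProduct.smul_tmul']
    exact RG6.tmul_one_eq_zero_of_mem p hk
  -- kill the generators one at a time
  have key : ∀ F : Finset B, (F : Set B) ⊆ q → ∃ c : B, P (c • w₀) ∧ ∀ g ∈ F, g • c • w₀ = 0 := by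
    intro F
    induction F using Finset.induction_on with
    | empty => exact fun _ => ⟨1, by rwa [one_smul], fun g hg => absurd hg (Finset.notMem_empty g)⟩
    | insert g F hgF ih =>
      intro hF
      rw [Finset.coe_insert, Set.insert_subset_iff] at hF
      obtain ⟨c, hPc, hc⟩ := ih hF.2
      obtain ⟨k, u, hu, hk⟩ := hnil g hF.1
      have hex : ∃ e : ℕ, ∃ s ∉ q, s • g ^ e • c • w₀ = 0 := ⟨k, u, hu, by
        rw [smul_smul, smul_comm, hk, smul_zero]⟩
      have hpos : Nat.find hex ≠ 0 := fun h0 => by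
        obtain ⟨s, hs, hs0⟩ := Nat.find_spec hex
        rw [h0, pow_zero, one_smul] at hs0
        exact hPc s hs hs0
      obtain ⟨e, he⟩ := Nat.exists_eq_succ_of_ne_zero hpos
      obtain ⟨s, hs, hs0⟩ := Nat.find_spec hex
      rw [he, pow_succ', mul_smul] at hs0
      refine ⟨s * g ^ e * c, fun s' hs' h0 => ?_, fun g' hg' => ?_⟩
      · refine Nat.find_min hex (m := e) (by omega) ⟨s' * s, fun h' => ((inferInstance : q.IsPrime).mem_or_mem h').elim hs' hs, ?_⟩
        rw [← h0]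
        simp only [smul_smul, mul_assoc]
      · rcases Finset.mem_insert.1 hg' with rfl | hg'
        · rw [mul_smul, mul_smul, smul_comm g' s]
          exact hs0
        · rw [mul_smul, mul_smul, smul_comm g', smul_comm g', hc g' hg', smul_zero, smul_zero]
  obtain ⟨c, hPc, hc⟩ := key G hG
  refine RG6.mem_ass_of_colon p q (c • w₀) fun b => ⟨fun hb => by_contra fun hbq => hPc b hbq hb, fun hb => ?_⟩
  obtain ⟨r, hr, hrb⟩ := hgen b hb
  refine smul_fibre_injective hr ?_
  rw [← smul_assoc]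
  obtain ⟨x, hx, y, hy, hxy⟩ := Submodule.mem_sup.1 hrb
  rw [← hxy, add_smul]
  clear hxy
  have hx0 : x • c • w₀ = 0 := by
    induction hx using Submodule.span_induction with
    | mem g hg => exact hc g hg
    | zero => exact zero_smul _ _
    | add a b _ _ ha hb => rw [add_smul, ha, hb, add_zero]
    | smul a b _ hb => rw [smul_eq_mul, mul_smul, hb, smul_zero]
  rw [hx0, zero_add]
  refine smul_eq_zero_of_mem le_rfl ?_ _
  rw [Ideal.smul_top_eq_map]
  exact hy

/-- A prime above a prime avoiding the element, in the localization of the quotient. -/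
theorem exists_prime_awayQuotient {A : Type u} [CommRing A] (P : Ideal A) (g : A) (t : Ideal A) [t.IsPrime]
    (hPt : P ≤ t) (hg : g ∉ t) :
    ∃ t₁ : Ideal (Localization.Away (Ideal.Quotient.mk P g)), t₁.IsPrime ∧
      t₁.comap (algebraMap A (Localization.Away (Ideal.Quotient.mk P g))) = t := by
  let L := Localization.Away (Ideal.Quotient.mk P g)
  let φ : A ⧸ P →+* t.ResidueField :=
    Ideal.Quotient.lift P (algebraMap A t.ResidueField) fun a ha => Ideal.algebraMap_residueField_eq_zero.2 (hPt ha)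
  have hu : IsUnit (φ (Ideal.Quotient.mk P g)) :=
    isUnit_iff_ne_zero.2 fun h => hg (Ideal.algebraMap_residueField_eq_zero.1 h)
  let ψ : L →+* t.ResidueField := IsLocalization.Away.lift (Ideal.Quotient.mk P g) hu
  refine ⟨RingHom.ker ψ, RingHom.ker_isPrime ψ, ?_⟩
  ext a
  rw [Ideal.mem_comap, RingHom.mem_ker, IsScalarTower.algebraMap_apply A (A ⧸ P) L, IsLocalization.Away.lift_eq]
  exact Ideal.algebraMap_residueField_eq_zero

set_option maxHeartbeats 1600000 in
/-- Relative associated points of a module free over a dense open of the closure of the base point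
specialize to relative associated points in every fibre over that open. -/
theorem exists_ass_between {A B N : Type u} [CommRing A] [CommRing B] [Algebra A B] [Algebra.FiniteType A B]
    [AddCommGroup N] [Module B N] [Module A N] [IsScalarTower A B N] [Module.Finite B N]
    (P : Ideal A) [P.IsPrime] (Q : Ideal B) [Q.IsPrime] (hQP : Q.LiesOver P)
    (hass : FlatCA.fiberIdeal P Q ∈ associatedPrimes (P.Fiber B) (FlatCA.fiberMod P B N))
    (g : A) (hg : g ∉ P)
    (hfree : Module.Free (Localization.Away (Ideal.Quotient.mk P g)) (Localization.Away (Ideal.Quotient.mk P g) ⊗[A] N))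
    (t : Ideal A) [t.IsPrime] (hgt : g ∉ t) (q' : Ideal B) [q'.IsPrime] (hq't : q'.LiesOver t) (hQq' : Q ≤ q') :
    ∃ (q : Ideal B) (_ : q.IsPrime), Q ≤ q ∧ q ≤ q' ∧ q.LiesOver t ∧
      FlatCA.fiberIdeal t q ∈ associatedPrimes (t.Fiber B) (FlatCA.fiberMod t B N) := by
  let L := Localization.Away (Ideal.Quotient.mk P g)
  haveI := hfree
  have hPt : P ≤ t := by
    rw [hQP.over, hq't.over]
    exact Ideal.comap_mono hQq'
  obtain ⟨P₁, hP₁, hP₁P⟩ := exists_prime_awayQuotient P g P le_rfl hg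
  obtain ⟨t₁, ht₁, ht₁t⟩ := exists_prime_awayQuotient P g t hPt hgt
  haveI := hP₁
  haveI := ht₁
  haveI hP₁o : P₁.LiesOver P := ⟨hP₁P.symm⟩
  haveI ht₁o : t₁.LiesOver t := ⟨ht₁t.symm⟩
  obtain ⟨B₁, N₁, _, _, _, _, _, _, _, _, _, _, _, _, f₁, hpo, hf₁⟩ := GrothLib.RG6.Impure.exists_data A B N L
  haveI := hpo
  haveI hpo' : Algebra.IsPushout A L B B₁ := hpo.symm
  haveI : Algebra.FiniteType L B₁ := GrothLib.RG6.Impure.finiteType_baseChange hpo
  haveI : Module.Finite B₁ N₁ := Module.Finite.equiv hf₁.equiv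
  haveI : Module.Flat L N₁ := Module.Flat.of_linearEquiv
    ((hf₁.equiv.restrictScalars L).symm ≪≫ₗ Algebra.IsPushout.cancelBaseChange A L B B₁ N)
  obtain ⟨q₂, hq₂, hq₂q', hq₂t⟩ := PureDesc13.exists_prime_pushout (R := A) (S := B) (T := L) (W := B₁) q' t₁
    (hq't.over.symm.trans ht₁t.symm)
  obtain ⟨hdown, hup⟩ := GrothLib.RG6.Impure.ass_both (A₁ := A) (A₂ := L) (B₁ := B) (B₂ := B₁) hf₁ P P₁
  obtain ⟨Q₁, hQ₁, hQ₁Q, hQ₁P, hass₁⟩ := hup Q hQP hass
  haveI := hq₂
  haveI := hQ₁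
  haveI := hQ₁P
  haveI hq₂o : q₂.LiesOver t₁ := ⟨hq₂t.symm⟩
  have hclear : ∀ z : B₁, ∃ (k : ℕ) (b : B), z * algebraMap A B₁ g ^ k = algebraMap B B₁ b := fun z => by
    refine hpo'.out.inductionOn z (motive := fun z => ∃ (k : ℕ) (b : B), z * algebraMap A B₁ g ^ k = algebraMap B B₁ b)
      ?_ ?_ ?_ ?_
    · exact ⟨0, 0, by simp⟩
    · intro b
      exact ⟨0, b, by simp⟩
    · rintro a z ⟨k, b, h⟩
      obtain ⟨j, a', ha'⟩ := IsLocalization.Away.surj (Ideal.Quotient.mk P g) a
      obtain ⟨a', rfl⟩ := Ideal.Quotient.mk_surjective a'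
      refine ⟨k + j, algebraMap A B a' * b, ?_⟩
      have h1 : algebraMap L B₁ a * algebraMap A B₁ g ^ j = algebraMap A B₁ a' := by
        rw [IsScalarTower.algebraMap_apply A L B₁ g, IsScalarTower.algebraMap_apply A L B₁ a', ← map_pow, ← map_mul]
        congr 1
      rw [Algebra.smul_def, map_mul, ← IsScalarTower.algebraMap_apply A B B₁, ← h1, ← h]
      ring
    · rintro z z' ⟨k, b, h⟩ ⟨k', b', h'⟩
      refine ⟨k + k', b * algebraMap A B g ^ k' + b' * algebraMap A B g ^ k, ?_⟩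
      rw [map_add, map_mul, map_mul, map_pow, map_pow, ← IsScalarTower.algebraMap_apply A B B₁, ← h, ← h']
      ring
  have hle : Q₁ ≤ q₂ := fun z hz => by
    obtain ⟨k, b, h⟩ := hclear z
    have hbQ : b ∈ Q := by
      rw [← hQ₁Q, Ideal.mem_comap, ← h]
      exact Q₁.mul_mem_right _ hz
    have hmem : z * algebraMap A B₁ g ^ k ∈ q₂ := by
      rw [h, ← Ideal.mem_comap, hq₂q']
      exact hQq' hbQ
    refine (‹q₂.IsPrime›.mem_or_mem hmem).resolve_right fun hgk => hgt ?_
    rw [← ht₁t, Ideal.mem_comap]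
    refine (Ideal.mem_of_liesOver q₂ t₁ _).2 ?_
    rw [← IsScalarTower.algebraMap_apply A L B₁]
    exact ‹q₂.IsPrime›.mem_of_pow_mem k hgk
  obtain ⟨q₁, hq₁, hQq₁, hq₁le, hq₁t, hass₂⟩ := RG6.exists_assoc_specialization (A := L) (B := B₁) N₁ t₁ P₁ Q₁
    hass₁ q₂ hle (FlatteningHens1.flatAt_of_flat' N₁ q₂)
  haveI := hq₁
  obtain ⟨hl, hass₃⟩ := (GrothLib.RG6.Impure.ass_both (A₁ := A) (A₂ := L) (B₁ := B) (B₂ := B₁) hf₁ t t₁).1 q₁ hq₁t hass₂
  refine ⟨q₁.comap (algebraMap B B₁), inferInstance, ?_, ?_, hl, hass₃⟩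
  · rw [← hQ₁Q]
    exact Ideal.comap_mono hQq₁
  · rw [← hq₂q']
    exact Ideal.comap_mono hq₁le

set_option backward.isDefEq.respectTransparency false

open AlgebraicGeometry

/-- A point of an affine chart with given prime. -/
theorem exists_point_chart {X : Scheme.{u}} {W : X.Opens} (hW : IsAffineOpen W) (q : Ideal Γ(X, W)) [q.IsPrime] :
    ∃ (x : X) (hx : x ∈ W), WeakAss.primeAt x hx = q := by
  let P : Spec Γ(X, W) := ⟨q, inferInstance⟩
  have hPW : hW.fromSpec P ∈ W := hW.range_fromSpec.subset ⟨P, rfl⟩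
  exact ⟨_, hPW, RelAssCrit8.primeAt_fromSpec hW P hPW⟩

/-- Primes of points in an affine chart reflect specialization. -/
theorem specializes_of_primeAt_le {X : Scheme.{u}} {W : X.Opens} (hW : IsAffineOpen W) {x y : X} (hx : x ∈ W)
    (hy : y ∈ W) (h : WeakAss.primeAt y hy ≤ WeakAss.primeAt x hx) : y ⤳ x := by
  rw [← RelAssCrit8.eq_of_primeAt_eq hW hy ⟨WeakAss.primeAt y hy, inferInstance⟩ rfl,
    ← RelAssCrit8.eq_of_primeAt_eq hW hx ⟨WeakAss.primeAt x hx, inferInstance⟩ rfl]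
  exact ((PrimeSpectrum.le_iff_specializes ⟨WeakAss.primeAt y hy, inferInstance⟩
    ⟨WeakAss.primeAt x hx, inferInstance⟩).1 h).map hW.fromSpec.continuous

/-- Specialization gives inclusion of the primes in an affine chart. -/
theorem primeAt_le_of_specializes {X : Scheme.{u}} {W : X.Opens} {x y : X} (hx : x ∈ W) (h : y ⤳ x) :
    WeakAss.primeAt y (h.mem_open W.2 hx) ≤ WeakAss.primeAt x hx := fun a ha => by
  by_contra hne
  exact (WeakAss.notMem_primeAt_iff.2 (h.mem_open (X.basicOpen a).2 (WeakAss.notMem_primeAt_iff.1 hne))) ha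

/-- A point which is generic in a component of a space is the only one specializing to it. -/
theorem eq_of_isGenericPoint_component {T : Type u} [TopologicalSpace T] [T0Space T] {C : Set T}
    (hC : C ∈ irreducibleComponents T) {x z : T} (hx : IsGenericPoint x C) (h : z ⤳ x) : z = x := by
  have h1 : C ⊆ closure {z} := hx.def ▸ specializes_iff_closure_subset.1 h
  have h2 : closure {z} ⊆ C := hC.2 isIrreducible_singleton.closure h1
  have h3 : z ∈ closure ({x} : Set T) := hx.def.symm ▸ h2 (subset_closure rfl)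
  exact (h.antisymm (specializes_iff_mem_closure.2 h3)).eq

/-- Near a relative associated point the generic points of the fibres of its closure are relative
associated points. -/
theorem exists_open_generic_mem_relAss {X S : Scheme.{u}} (f : X ⟶ S) [LocallyOfFiniteType f] (F : X.Modules)
    [F.IsQuasicoherent] (hFt : CohB1.IsFT F) (ξ : X) (hξ : ξ ∈ MoreMor.relAss f F) :
    ∃ V : Set ↑X, V ⊆ closure {ξ} ∧ IsOpen (Subtype.val ⁻¹' V : Set ↑(closure ({ξ} : Set ↑X))) ∧ V.Nonempty ∧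
      ∀ (x : X) (hx : x ∈ V), (∃ C ∈ irreducibleComponents ↑(V ∩ f ⁻¹' {f x}),
        IsGenericPoint (⟨x, hx, rfl⟩ : ↑(V ∩ f ⁻¹' {f x})) C) → x ∈ MoreMor.relAss f F := by
  obtain ⟨V, hV, hξV, -⟩ := exists_isAffineOpen_mem_and_subset (show f ξ ∈ (⊤ : S.Opens) from trivial)
  obtain ⟨W, hW, hξW, e⟩ := exists_isAffineOpen_mem_and_subset (show ξ ∈ f ⁻¹ᵁ V from hξV)
  letI : Algebra Γ(S, V) Γ(X, W) := (f.appLE V W e).hom.toAlgebra
  haveI : Algebra.FiniteType Γ(S, V) Γ(X, W) :=
    HasRingHomProperty.appLE @LocallyOfFiniteType f ‹_› ⟨V, hV⟩ ⟨W, hW⟩ e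
  letI : Module Γ(S, V) Γ(F, W) := Module.compHom _ (algebraMap Γ(S, V) Γ(X, W))
  haveI : IsScalarTower Γ(S, V) Γ(X, W) Γ(F, W) := IsScalarTower.of_algebraMap_smul fun _ _ => rfl
  haveI := QCoh.moduleFinite_of_isFiniteType F hFt hW
  let P := WeakAss.primeAt (f ξ) (e hξW)
  let Q := WeakAss.primeAt ξ hξW
  haveI : P.IsPrime := inferInstanceAs (WeakAss.primeAt (f ξ) (e hξW)).IsPrime
  haveI : Q.IsPrime := inferInstanceAs (WeakAss.primeAt ξ hξW).IsPrime
  haveI hQP : Q.LiesOver P := ⟨(RelAssCrit8.comap_primeAt f e ξ hξW).symm⟩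
  obtain ⟨n, hn⟩ := RelAssDim8.exists_isTop f F hV hW e ξ hξW rfl hξ
  have hass := mem_ass_of_isTop P Q hn
  obtain ⟨g, hg, hfree⟩ := exists_free_mod P (B := Γ(X, W)) Γ(F, W)
  let O : X.Opens := W ⊓ f ⁻¹ᵁ (S.basicOpen g)
  refine ⟨closure {ξ} ∩ (O : Set X), Set.inter_subset_left, ?_, ⟨ξ, subset_closure rfl, hξW,
    WeakAss.notMem_primeAt_iff.1 hg⟩, fun x hx hgen => ?_⟩
  · rw [Set.preimage_inter, Subtype.coe_preimage_self, Set.univ_inter]
    exact O.2.preimage continuous_subtype_val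
  obtain ⟨C, hC, hxC⟩ := hgen
  have hxW : x ∈ W := hx.2.1
  have hgx : g ∉ WeakAss.primeAt (f x) (e hxW) := WeakAss.notMem_primeAt_iff.2 hx.2.2
  have hξx : ξ ⤳ x := specializes_iff_mem_closure.2 hx.1
  obtain ⟨q, hq, hQq, hqx, hqt, hassq⟩ := exists_ass_between P Q hQP hass g hg (hfree g dvd_rfl)
    (WeakAss.primeAt (f x) (e hxW)) hgx (WeakAss.primeAt x hxW) ⟨(RelAssCrit8.comap_primeAt f e x hxW).symm⟩
    (primeAt_le_of_specializes hxW hξx)
  obtain ⟨z, hzW, hzq⟩ := exists_point_chart hW q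
  subst hzq
  have h1 : WeakAss.primeAt (f z) (e hzW) = WeakAss.primeAt (f x) (e hxW) :=
    (RelAssCrit8.comap_primeAt f e z hzW).symm.trans hqt.over.symm
  have hfz : f z = f x :=
    (RelAssCrit8.eq_of_primeAt_eq hV (e hzW) ⟨WeakAss.primeAt (f x) (e hxW), inferInstance⟩ h1).symm.trans
      (RelAssCrit8.eq_of_primeAt_eq hV (e hxW) _ rfl)
  have hzmem : z ∈ (closure {ξ} ∩ (O : Set X)) ∩ f ⁻¹' {f x} :=
    ⟨⟨specializes_iff_mem_closure.1 (specializes_of_primeAt_le hW hzW hξW hQq), hzW,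
      show f z ∈ S.basicOpen g from hfz ▸ hx.2.2⟩, hfz⟩
  have hzx : z = x := congrArg Subtype.val (eq_of_isGenericPoint_component hC hxC
    (show (⟨z, hzmem⟩ : ↑((closure {ξ} ∩ (O : Set X)) ∩ f ⁻¹' {f x})) ⤳ ⟨x, hx, rfl⟩ from
      (subtype_specializes_iff _ _).2 (specializes_of_primeAt_le hW hxW hzW hqx)))
  subst hzx
  exact RelAssCrit8.mem_relAss f F hV hW e z hzW rfl _ rfl hassq

end GrothLib.RelAss13
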